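import Cfsg.Agent.H906.Trace

/-!
# Traces which are combinations of traces of other representations
-/

set_option autoImplicit false
set_option linter.unusedSectionVars false

namespace Cfsg.Agent.H840.M11

open scoped Matrix

/-- a matrix representation with a coefficient -/
structure Rp (G : Type*) [Group G] (F : Type*) [Field F] where
  /-- dimension -/
  n : ℕ
  /-- the representation -/
  ρ : G →* Matrix (Fin n) (Fin n) F
  /-- the coefficient -/
  c : F

section

variable {G : Type*} [Group G] {F : Type*} [Field F]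

/-- the homomorphism of algebras -/
noncomputable def aa {n : ℕ} (ρ : G →* Matrix (Fin n) (Fin n) F) : MonoidAlgebra F G →ₐ[F] Matrix (Fin n) (Fin n) F :=
  MonoidAlgebra.lift F (Matrix (Fin n) (Fin n) F) G ρ

theorem aa_of {n : ℕ} (ρ : G →* Matrix (Fin n) (Fin n) F) (g : G) : aa ρ (MonoidAlgebra.of F G g) = ρ g :=
  MonoidAlgebra.lift_of _ _

theorem aa_surj {n : ℕ} {ρ : G →* Matrix (Fin n) (Fin n) F} (h : Submodule.span F (Set.range ρ) = ⊤) :
    Function.Surjective (aa ρ) := by
  have : LinearMap.range (aa ρ).toLinearMap = ⊤ := by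
    rw [eq_top_iff, ← h, Submodule.span_le]
    rintro _ ⟨g, rfl⟩
    exact ⟨MonoidAlgebra.of F G g, aa_of ρ g⟩
  exact LinearMap.range_eq_top.1 this

theorem prime_mat {n : ℕ} {A B : Matrix (Fin n) (Fin n) F} (hA : A ≠ 0) (hB : B ≠ 0) : ∃ Y, A * Y * B ≠ 0 := by
  obtain ⟨i, j, hij⟩ : ∃ i j, A i j ≠ 0 := by
    by_contra h
    push Not at h
    exact hA (Matrix.ext h)
  obtain ⟨k, l, hkl⟩ : ∃ i j, B i j ≠ 0 := by
    by_contra h
    push Not at h
    exact hB (Matrix.ext h)
  refine ⟨Matrix.single j k 1, fun h => ?_⟩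
  have h1 := congrFun (congrFun h i) l
  have h2 : (A * Matrix.single j k 1 * B : Matrix (Fin n) (Fin n) F) i l = A i j * B k l := by
    rw [Matrix.mul_apply, Finset.sum_eq_single k]
    · rw [Matrix.mul_single_apply_same, mul_one]
    · intro b _ hb
      rw [Matrix.mul_single_apply_of_ne _ _ _ _ _ hb, zero_mul]
    · intro h; exact absurd (Finset.mem_univ k) h
  rw [h2] at h1
  rcases mul_eq_zero.1 h1 with h3 | h3
  · exact hij h3
  · exact hkl h3

theorem exists_z {n : ℕ} {ρ : G →* Matrix (Fin n) (Fin n) F} (hn : 0 < n) (hs : Function.Surjective (aa ρ)) :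
    ∀ L : List (Rp G F), (∀ r ∈ L, ∃ x, aa r.ρ x = 0 ∧ aa ρ x ≠ 0) → ∃ z, aa ρ z ≠ 0 ∧ ∀ r ∈ L, aa r.ρ z = 0 := by
  intro L
  induction L with
  | nil =>
    intro _
    refine ⟨1, ?_, fun r hr => absurd hr (by simp)⟩
    rw [map_one]
    have : Nonempty (Fin n) := ⟨⟨0, hn⟩⟩
    exact one_ne_zero
  | cons r L ih =>
    intro h
    obtain ⟨z, hz, hz'⟩ := ih fun r' hr' => h r' (List.mem_cons_of_mem _ hr')
    obtain ⟨x, hx, hx'⟩ := h r List.mem_cons_self
    obtain ⟨Y, hY⟩ := prime_mat hz hx'
    obtain ⟨y, rfl⟩ := hs Y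
    refine ⟨z * y * x, by rw [map_mul, map_mul]; exact hY, ?_⟩
    intro r' hr'
    rw [map_mul, map_mul]
    rcases List.mem_cons.1 hr' with rfl | h1
    · rw [hx, mul_zero]
    · rw [hz' r' h1, zero_mul, zero_mul]

/-- one of the kernels is contained in the kernel -/
theorem exists_ker {n : ℕ} {ρ : G →* Matrix (Fin n) (Fin n) F} (hn : 0 < n)
    (hsp : Submodule.span F (Set.range ρ) = ⊤) (L : List (Rp G F))
    (h : ∀ g, (ρ g).trace = (L.map fun r => r.c * (r.ρ g).trace).sum) :
    ∃ r ∈ L, ∀ x, aa r.ρ x = 0 → aa ρ x = 0 := by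
  by_contra hcon
  push Not at hcon
  obtain ⟨z, hz, hz'⟩ := exists_z hn (aa_surj hsp) L hcon
  apply hz
  have h1 : ∀ x : MonoidAlgebra F G, (aa ρ x).trace = (L.map fun r => r.c * (aa r.ρ x).trace).sum := by
    intro x
    induction x using MonoidAlgebra.induction_on with
    | of g => simp only [aa_of, h]
    | add x y hx hy =>
      simp only [map_add, Matrix.trace_add, mul_add, hx, hy]
      rw [List.sum_map_add]
    | smul c x hx =>
      simp only [map_smul, Matrix.trace_smul, hx, smul_eq_mul]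
      rw [← List.sum_map_mul_left]
      congr 1
      exact List.map_congr_left fun r _ => by ring
  apply Cfsg.Agent.H906.eq_zero_of_trace_mul hsp
  rintro _ ⟨g, rfl⟩
  rw [← aa_of ρ g, ← map_mul, h1]
  have h2 : ∀ r ∈ L, r.c * (aa r.ρ (z * MonoidAlgebra.of F G g)).trace = 0 := by
    intro r hr
    rw [map_mul, hz' r hr, zero_mul, Matrix.trace_zero, mul_zero]
  rw [List.map_congr_left (g := fun _ => (0 : F)) h2]
  simp

variable [Finite G]

theorem finrank_mat (n : ℕ) : Module.finrank F (Matrix (Fin n) (Fin n) F) = n * n := by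
  rw [Module.finrank_matrix, Fintype.card_fin, Module.finrank_self, mul_one]

theorem dim_le_of_ker {n m : ℕ} {ρ : G →* Matrix (Fin n) (Fin n) F} {ρ' : G →* Matrix (Fin m) (Fin m) F}
    (hsp : Submodule.span F (Set.range ρ) = ⊤) (h : ∀ x, aa ρ' x = 0 → aa ρ x = 0) :
    n * n ≤ Module.finrank F (LinearMap.range (aa ρ').toLinearMap) := by
  have hfin : Module.Finite F (MonoidAlgebra F G) := inferInstance
  have h1 := LinearMap.finrank_range_add_finrank_ker (aa ρ).toLinearMap
  have h2 := LinearMap.finrank_range_add_finrank_ker (aa ρ').toLinearMap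
  have h3 : Module.finrank F (LinearMap.range (aa ρ).toLinearMap) = n * n := by
    rw [LinearMap.range_eq_top.2 (show Function.Surjective (aa ρ).toLinearMap from aa_surj hsp), finrank_top, finrank_mat]
  have h4 : Module.finrank F (LinearMap.ker (aa ρ').toLinearMap) ≤ Module.finrank F (LinearMap.ker (aa ρ).toLinearMap) :=
    Submodule.finrank_mono fun x hx => h x hx
  omega

/-- the dimension is not larger -/
theorem le_of_ker {n m : ℕ} {ρ : G →* Matrix (Fin n) (Fin n) F} {ρ' : G →* Matrix (Fin m) (Fin m) F}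
    (hsp : Submodule.span F (Set.range ρ) = ⊤) (h : ∀ x, aa ρ' x = 0 → aa ρ x = 0) : n ≤ m := by
  have h1 := dim_le_of_ker hsp h
  have h2 := Submodule.finrank_le (LinearMap.range (aa ρ').toLinearMap)
  rw [finrank_mat] at h2
  exact Nat.mul_self_le_mul_self_iff.1 (h1.trans h2)

/-- equal dimensions : the traces agree -/
theorem trace_of_ker {n : ℕ} {ρ ρ' : G →* Matrix (Fin n) (Fin n) F}
    (hsp : Submodule.span F (Set.range ρ) = ⊤) (h : ∀ x, aa ρ' x = 0 → aa ρ x = 0) (g : G) :
    (ρ g).trace = (ρ' g).trace := by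
  classical
  have h1 := dim_le_of_ker hsp h
  have hs' : Function.Surjective (aa ρ') := by
    have : LinearMap.range (aa ρ').toLinearMap = ⊤ := by
      apply Submodule.eq_top_of_finrank_eq
      apply le_antisymm (Submodule.finrank_le _)
      rw [finrank_mat]
      exact h1
    exact LinearMap.range_eq_top.1 this
  have heq : ∀ x y, aa ρ' x = aa ρ' y → aa ρ x = aa ρ y := by
    intro x y hxy
    have := h (x - y) (by rw [map_sub, hxy, sub_self])
    rwa [map_sub, sub_eq_zero] at this
  let s : Matrix (Fin n) (Fin n) F → MonoidAlgebra F G := Function.surjInv hs'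
  have hs : ∀ X, aa ρ' (s X) = X := Function.surjInv_eq hs'
  let φ : Matrix (Fin n) (Fin n) F →ₐ[F] Matrix (Fin n) (Fin n) F :=
    { toFun := fun X => aa ρ (s X)
      map_one' := by
        have := heq (s 1) 1 (by rw [hs, map_one])
        rw [this, map_one]
      map_mul' := fun X Y => by
        have := heq (s (X * Y)) (s X * s Y) (by rw [hs, map_mul, hs, hs])
        rw [this, map_mul]
      map_zero' := by
        have := heq (s 0) 0 (by rw [hs, map_zero])
        rw [this, map_zero]
      map_add' := fun X Y => by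
        have := heq (s (X + Y)) (s X + s Y) (by rw [hs, map_add, hs, hs])
        rw [this, map_add]
      commutes' := fun c => by
        have := heq (s (algebraMap F _ c)) (algebraMap F _ c) (by rw [hs, AlgHom.commutes])
        rw [this, AlgHom.commutes] }
  have hφ : ∀ x, φ (aa ρ' x) = aa ρ x := fun x => heq _ _ (hs _)
  have hφs : Function.Surjective φ := by
    intro Y
    obtain ⟨y, rfl⟩ := aa_surj hsp Y
    exact ⟨aa ρ' y, hφ y⟩
  have hφi : Function.Injective φ := (LinearMap.injective_iff_surjective (f := φ.toLinearMap)).2 hφs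
  obtain ⟨B, hB⟩ := Cfsg.Agent.H919.exists_conj_of_algEquiv (AlgEquiv.ofBijective φ ⟨hφi, hφs⟩)
  rw [← aa_of ρ g, ← aa_of ρ' g, ← hφ]
  have h3 : φ (aa ρ' (MonoidAlgebra.of F G g)) = _ := hB _
  rw [h3, Matrix.trace_mul_comm, ← Matrix.mul_assoc, ← Units.val_mul, inv_mul_cancel, Units.val_one, Matrix.one_mul]

end

end Cfsg.Agent.H840.M11
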