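import Cfsg.Agent.H840.M11.K5

/-!
# `M11` in degree ten, characteristic not three; unitary groups
-/

set_option autoImplicit false
set_option linter.constructorNameAsVariable false
set_option linter.unusedSectionVars false
set_option linter.unusedVariables false

namespace Cfsg.Agent.H840.M11

open Cfsg Cfsg.Geo H915.LD Cfsg.Agent.CoThreeStd.MTwelve Cfsg.Agent.H6.M11
open Cfsg.Agent.H840.L34 (spf spf_inj card_X sgl_det sgm dl sgm_vec exists_pow)
open scoped Matrix MatrixGroups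

universe u

variable {F : Type u} [Field F]

/-- **`SL_10(F)`, characteristic not three.** -/
theorem kill_linear_ne_three [Finite F] {H P : Subgroup (GL (Fin 10) F)}
    (hH : IsMaximalIn (specialLinear (Fin 10) F) H)
    (hR : IsResidualCore H P) (h : Spor.IsoM11 (Soc P)) (h2 : (2 : F) ≠ 0) (h3 : (3 : F) ≠ 0) (hSD : ¬ SD P) : False := by
  have hC := core_of_residual hR
  obtain ⟨e, -⟩ := exists_letters hC h
  obtain ⟨p, hp⟩ := CharP.exists F
  have hpp : Fact p.Prime := ⟨(CharP.char_is_prime_or_zero F p).resolve_right (by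
    rintro rfl
    have : CharZero F := CharP.charP_to_charZero F
    exact not_finite F)⟩
  have hp3 : p ≠ 3 := by
    rintro rfl
    exact h3 (by exact_mod_cast CharP.cast_eq_zero F 3)
  obtain ⟨s, hs, htr⟩ := htr_ne_three hC p hp3 h2 e hSD
  exact kill_core hH hR e hs h2 htr (fun _ => sgl_det _ _ _) (fun _ h _ => h)

section unitary

variable [Fintype F] {q : ℕ}

/-- the Frobenius automorphism `x ↦ x^q` -/
theorem exists_frob (hF : Fintype.card F = q ^ 2) : ∃ σ : F ≃+* F, ∀ x, σ x = x ^ q := by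
  obtain ⟨p, k, hp, hc, hq⟩ := exists_pow hF
  have : Fact p.Prime := ⟨hp⟩
  refine ⟨RingEquiv.ofBijective (iterateFrobenius F p k) ?_, fun x => ?_⟩
  · exact (Finite.injective_iff_bijective).1 (iterateFrobenius_inj F p k)
  · change iterateFrobenius F p k x = _
    rw [iterateFrobenius_def, hq]

theorem herm_eq {σ : F ≃+* F} (hσ : ∀ x, σ x = x ^ q) (u v : Fin 10 → F) :
    hermForm 10 F q u v = u ⬝ᵥ (σ ∘ v) := by
  unfold hermForm dotProduct
  exact Finset.sum_congr rfl fun i _ => by rw [Function.comp_apply, hσ]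

theorem mem_GU_iff {σ : F ≃+* F} (hσ : ∀ x, σ x = x ^ q) (g : GL (Fin 10) F) :
    g ∈ GU 10 F q ↔ (g : Matrix (Fin 10) (Fin 10) F)ᵀ * 1 * (g : Matrix (Fin 10) (Fin 10) F).map σ = 1 := by
  have hmv : ∀ v : Fin 10 → F, (σ ∘ ((g : Matrix (Fin 10) (Fin 10) F) *ᵥ v)) =
      (g : Matrix (Fin 10) (Fin 10) F).map σ *ᵥ (σ ∘ v) := by
    intro v
    ext i
    simp [Matrix.mulVec, dotProduct]
  have key : ∀ u v : Fin 10 → F, hermForm 10 F q ((g : Matrix (Fin 10) (Fin 10) F) *ᵥ u)
      ((g : Matrix (Fin 10) (Fin 10) F) *ᵥ v) =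
      u ⬝ᵥ (((g : Matrix (Fin 10) (Fin 10) F)ᵀ * (g : Matrix (Fin 10) (Fin 10) F).map σ) *ᵥ (σ ∘ v)) := by
    intro u v
    rw [herm_eq hσ, hmv, ← Matrix.mulVec_mulVec, Matrix.dotProduct_mulVec u, Matrix.vecMul_transpose]
  rw [Matrix.mul_one]
  constructor
  · intro h
    apply Matrix.ext_of_mulVec_single
    intro j
    ext i
    have h1 : hermForm 10 F q ((g : Matrix (Fin 10) (Fin 10) F) *ᵥ Pi.single i 1)
      ((g : Matrix (Fin 10) (Fin 10) F) *ᵥ Pi.single j 1) = hermForm 10 F q (Pi.single i 1) (Pi.single j 1) := h _ _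
    rw [key, herm_eq hσ, single_dotProduct, single_dotProduct, one_mul, one_mul] at h1
    have h2 : (σ ∘ (Pi.single j (1 : F)) : Fin 10 → F) = Pi.single j 1 := by
      ext k
      rw [Function.comp_apply]
      by_cases hk : k = j
      · subst hk; rw [Pi.single_eq_same, map_one]
      · rw [Pi.single_eq_of_ne hk, map_zero]
    rw [h2] at h1
    rw [h1, Matrix.one_mulVec]
  · intro h u v
    change hermForm 10 F q ((g : Matrix (Fin 10) (Fin 10) F) *ᵥ u) ((g : Matrix (Fin 10) (Fin 10) F) *ᵥ v) = _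
    rw [key, h, Matrix.one_mulVec, herm_eq hσ]

theorem tr_inv_of_GU {σ : F ≃+* F} (hσ : ∀ x, σ x = x ^ q) {g : GL (Fin 10) F} (hg : g ∈ GU 10 F q) :
    tr g⁻¹ = σ (tr g) := by
  have h1 := (mem_GU_iff hσ g⁻¹).1 (Subgroup.inv_mem _ hg)
  rw [Matrix.mul_one] at h1
  have h2 : ((g⁻¹ : GL (Fin 10) F) : Matrix (Fin 10) (Fin 10) F).map σ * (g : Matrix (Fin 10) (Fin 10) F).map σ = 1 := by
    rw [← Matrix.map_mul, ← Units.val_mul, inv_mul_cancel, Units.val_one, Matrix.map_one _ (map_zero σ) (map_one σ)]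
  have h3 : ((g⁻¹ : GL (Fin 10) F) : Matrix (Fin 10) (Fin 10) F)ᵀ = (g : Matrix (Fin 10) (Fin 10) F).map σ := by
    calc ((g⁻¹ : GL (Fin 10) F) : Matrix (Fin 10) (Fin 10) F)ᵀ
        = ((g⁻¹ : GL (Fin 10) F) : Matrix (Fin 10) (Fin 10) F)ᵀ *
            (((g⁻¹ : GL (Fin 10) F) : Matrix (Fin 10) (Fin 10) F).map σ * (g : Matrix (Fin 10) (Fin 10) F).map σ) := by
          rw [h2, Matrix.mul_one]
      _ = _ := by rw [← Matrix.mul_assoc, h1, Matrix.one_mul]
  unfold tr
  rw [← Matrix.trace_transpose, h3]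
  simp [Matrix.trace, map_sum]

/-- **`SU_10(q)`.** -/
theorem kill_unitary (hF : Fintype.card F = q ^ 2) {H P : Subgroup (GL (Fin 10) F)}
    (hH : IsMaximalIn (GU 10 F q ⊓ specialLinear (Fin 10) F) H)
    (hR : IsResidualCore H P) (h : Spor.IsoM11 (Soc P)) (h2 : (2 : F) ≠ 0) (hSD : ¬ SD P) : False := by
  have hC := core_of_residual hR
  obtain ⟨e, -⟩ := exists_letters hC h
  obtain ⟨σ, hσ⟩ := exists_frob hF
  have hPU : ∀ p ∈ P, p ∈ GU 10 F q := fun p hp => (hH.1.le (hR.le hp)).1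
  obtain ⟨p, k, hp, hc, hq⟩ := exists_pow hF
  have hpp : Fact p.Prime := ⟨hp⟩
  by_cases hp3 : p = 3
  · -- traces are in the prime field
    subst hp3
    apply hSD
    obtain ⟨-, hfr⟩ := m11_three hC h (by rw [Fintype.card_fin]; norm_num)
    intro g hg
    rw [tr_inv_of_GU hσ (hPU g hg), hσ, hq]
    have : ∀ n : ℕ, tr g ^ 3 ^ n = tr g := by
      intro n
      induction n with
      | zero => rw [pow_zero, pow_one]
      | succ n ih => rw [pow_succ, pow_mul, ih, hfr g hg]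
    exact this k
  · obtain ⟨s, hs, htr⟩ := htr_ne_three hC p hp3 h2 e hSD
    have hodd : Odd q := by
      rcases Nat.even_or_odd q with h0 | h0
      · exfalso
        apply h2
        obtain ⟨m, hm⟩ := h0
        have h5 : 2 ∣ p ^ k := by rw [← hq, hm]; exact ⟨m, by ring⟩
        have h6 : p = 2 := ((Nat.prime_dvd_prime_iff_eq Nat.prime_two hp).1 (Nat.prime_two.dvd_of_dvd_pow h5)).symm
        subst h6
        exact CharTwo.two_eq_zero
      · exact h0
    have hσs : σ s = -s := by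
      have h8 : tr ((e.symm (ev v11 (rv 6)) : P) : GL (Fin 10) F) = s := by
        rw [htr 6 (by norm_num)]
        change ((0 : ℤ) : F) + ((1 : ℤ) : F) * s = s
        push_cast; ring
      have h9 : tr ((e.symm (ev v11 (rv 7)) : P) : GL (Fin 10) F) = -s := by
        rw [htr 7 (by norm_num)]
        change ((0 : ℤ) : F) + ((-1 : ℤ) : F) * s = -s
        push_cast; ring
      have hy : (ev v11 [2])⁻¹ = ev v11 [2, 2, 2, 2, 2, 2, 2] := by
        rw [inv_eq_iff_mul_eq_one, ← ev_append, ← ev_nil v11]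
        exact sat_11.base (by decide +kernel)
      have h10 := tr_inv_of_GU hσ (hPU _ (e.symm (ev v11 (rv 6))).2)
      rw [h8] at h10
      rw [← h10, ← h9]
      congr 1
      change _ = ((e.symm (ev v11 [2, 2, 2, 2, 2, 2, 2]) : P) : GL (Fin 10) F)
      rw [← hy, map_inv]
      rfl
    refine kill_core hH hR e hs h2 htr ?_ ?_
    · intro x
      refine ⟨?_, sgl_det _ _ _⟩
      intro u v
      change hermForm 10 F q (sgm F (dl x.1 x.2) x.2 *ᵥ u) (sgm F (dl x.1 x.2) x.2 *ᵥ v) = hermForm 10 F q u v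
      unfold hermForm
      rw [← Equiv.sum_comp x.2 (fun i => u i * v i ^ q)]
      refine Finset.sum_congr rfl fun i _ => ?_
      rw [sgm_vec, sgm_vec, mul_pow]
      have h3 : (((dl x.1 x.2 i : ℤˣ) : ℤ) : F) * (((dl x.1 x.2 i : ℤˣ) : ℤ) : F) ^ q = 1 := by
        rcases Int.units_eq_one_or (dl x.1 x.2 i) with h | h <;> rw [h]
        · simp
        · rw [Units.val_neg, Units.val_one, Int.cast_neg, Int.cast_one, hodd.neg_one_pow]; ring
      linear_combination (u (x.2 i) * v (x.2 i) ^ q) * h3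
    · intro g hg hM
      exact ⟨(mem_GU_iff hσ g).2 (hM σ hσs 1 fun p hp => (mem_GU_iff hσ p).1 (hPU p hp)), hg⟩

end unitary

end Cfsg.Agent.H840.M11
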