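import Cfsg.Agent.H840.M11.Rel3
import Cfsg.Agent.H840.M11.Idl
import Cfsg.Agent.H840.M11.KU

/-!
# `M11` in degree ten, characteristic three
-/

set_option autoImplicit false
set_option linter.constructorNameAsVariable false
set_option linter.unusedSectionVars false
set_option linter.unusedVariables false

namespace Cfsg.Agent.H840.M11

open Cfsg Cfsg.Geo H915.LD Cfsg.Agent.CoThreeStd.MTwelve Cfsg.Agent.H6.M11
open Cfsg.Agent.H840.L34 (spf sgl_det)
open scoped Matrix MatrixGroups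

universe u

/-- the dual representation -/
def dual {G : Type*} [Group G] {F : Type*} [Field F] {n : ℕ} (ρ : G →* Matrix (Fin n) (Fin n) F) :
    G →* Matrix (Fin n) (Fin n) F where
  toFun g := (ρ g⁻¹)ᵀ
  map_one' := by rw [inv_one, map_one, Matrix.transpose_one]
  map_mul' a b := by rw [mul_inv_rev, map_mul, Matrix.transpose_mul]

theorem dual_trace {G : Type*} [Group G] {F : Type*} [Field F] {n : ℕ} (ρ : G →* Matrix (Fin n) (Fin n) F) (g : G) :
    (dual ρ g).trace = (ρ g⁻¹).trace := Matrix.trace_transpose _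

theorem trace_cls {G : Type*} [Group G] {F : Type*} [Field F] {n : ℕ} (ρ : G →* Matrix (Fin n) (Fin n) F) {g r : G}
    (h : IsConj r g) : (ρ g).trace = (ρ r).trace := by
  obtain ⟨c, hc⟩ := isConj_iff.1 h
  rw [← hc, map_mul, map_mul, Matrix.trace_mul_comm, ← Matrix.mul_assoc, ← map_mul, inv_mul_cancel, map_one,
    Matrix.one_mul]

variable {F : Type u} [Field F] [Finite F] {P : Subgroup (GL (Fin 10) F)}

/-- the relations between the traces -/
theorem rels (hC : Core P) [Fact (Nat.Prime 3)] [CharP F 3] (e : P ≃* Spor.M11) (T : ℕ → F)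
    (hT : ∀ i, T i = tr ((e.symm (ev v11 (rv i)) : P) : GL (Fin 10) F)) :
    T 0 + 5 * T 8 + 5 * T 9 = 0 ∧ T 1 + 2 * T 2 + 4 * T 4 + 2 * T 5 + T 8 + T 9 = 0 ∧
      T 2 + 2 * T 4 + T 8 + T 9 + 2 * T 6 + 2 * T 7 + T 3 + T 5 = 0 ∧ T 2 - T 0 = 0 ∧ T 5 - T 1 = 0 := by
  let v : ℕ → P := fun i => e.symm (v11 i)
  have hv : Sat v := sat_11.map e.symm.toMonoidHom
  have hev : ∀ w, ev v w = e.symm (ev v11 w) := fun w => (map_ev v11 e.symm.toMonoidHom w).symm
  have hv5 : v 5 ≠ 1 := by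
    intro h0
    have h1 : ev v [5] = 1 := by rw [ev_cons, ev_nil, mul_one, h0]
    have h2 : orderOf (ev v [5]) = 11 := by
      rw [hev]
      exact (MulEquiv.orderOf_eq _ _).trans orders_11.2.2.2
    rw [h1, orderOf_one] at h2
    exact absurd h2 (by norm_num)
  have hcl : Subgroup.closure ({v 5, v 8} : Set P) = ⊤ := by
    have h2 := congrArg (Subgroup.map e.symm.toMonoidHom) closure_11
    rw [MonoidHom.map_closure, Set.image_pair, Subgroup.map_top_of_surjective _ e.symm.surjective] at h2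
    exact h2
  have hck : CharP (AlgebraicClosure F) 3 := charP_of_injective_algebraMap (algebraMap F _).injective 3
  obtain ⟨ξ, hξ⟩ := exists_root (AlgebraicClosure F) 5 (cast_ne _ Nat.prime_three Nat.prime_five (by norm_num))
  obtain ⟨ζ, hζ⟩ := exists_root (AlgebraicClosure F) 11 (cast_ne _ Nat.prime_three (by norm_num) (by norm_num))
  have h3 : (3 : AlgebraicClosure F) = 0 := by
    have := CharP.cast_eq_zero (AlgebraicClosure F) 3
    exact_mod_cast this
  have hfix := fix_eleven (h := hv) (R := rep P (AlgebraicClosure F)) h3 hζ hξ (irr_rep hC hv hcl _) (by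
    intro h
    have h1 := rep_eq_one _ h
    rw [ev_cons, ev_nil, mul_one] at h1
    exact hv5 h1) (by rw [Module.finrank_fintype_fun_eq_card]; exact hC.two_le)
    (by rw [Module.finrank_fintype_fun_eq_card, Fintype.card_fin]; norm_num)
  have hop : op v (rep P (AlgebraicClosure F)) [5] = op v11 (repM e (AlgebraicClosure F)) [5] := by
    unfold op
    rw [hev]
    rfl
  rw [hop] at hfix
  have h11 : ((11 : ℕ) : AlgebraicClosure F) ≠ 0 := cast_ne _ Nat.prime_three (by norm_num) (by norm_num)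
  have ra := rel_a (R := repM e (AlgebraicClosure F)) h11 hfix
  have rb := rel_b (R := repM e (AlgebraicClosure F)) h11 hfix
  have rc := rel_c (R := repM e (AlgebraicClosure F)) h11 hfix
  have c1 : tw v11 (repM e (AlgebraicClosure F)) [3] = tw v11 (repM e (AlgebraicClosure F)) [3, 0, 3, 0, 3, 0] :=
    tw_conj [] (by decide +kernel)
  have c2 : tw v11 (repM e (AlgebraicClosure F)) [0] = tw v11 (repM e (AlgebraicClosure F)) [3, 0, 3, 0] :=
    (tw_conj [7] (by decide +kernel)).symm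
  rw [c1, c2] at rb
  rw [c2] at rc
  simp only [tw_repM] at ra rb rc
  have inj := (algebraMap F (AlgebraicClosure F)).injective
  have t0 : T 0 = tr ((e.symm (ev v11 []) : P) : GL (Fin 10) F) := hT 0
  have t1 : T 1 = tr ((e.symm (ev v11 [3, 0, 3, 0, 3, 0]) : P) : GL (Fin 10) F) := hT 1
  have t2 : T 2 = tr ((e.symm (ev v11 [3, 0, 3, 0]) : P) : GL (Fin 10) F) := hT 2
  have t3 : T 3 = tr ((e.symm (ev v11 [2, 2]) : P) : GL (Fin 10) F) := hT 3
  have t4 : T 4 = tr ((e.symm (ev v11 [6]) : P) : GL (Fin 10) F) := hT 4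
  have t5 : T 5 = tr ((e.symm (ev v11 [3, 0]) : P) : GL (Fin 10) F) := hT 5
  have t6 : T 6 = tr ((e.symm (ev v11 [2]) : P) : GL (Fin 10) F) := hT 6
  have t7 : T 7 = tr ((e.symm (ev v11 [2, 2, 2, 2, 2, 2, 2]) : P) : GL (Fin 10) F) := hT 7
  have t8 : T 8 = tr ((e.symm (ev v11 [5]) : P) : GL (Fin 10) F) := hT 8
  have t9 : T 9 = tr ((e.symm (ev v11 [5, 5, 5, 5, 5, 5, 5, 5, 5, 5]) : P) : GL (Fin 10) F) := hT 9
  rw [← t0, ← t8, ← t9] at ra
  rw [← t1, ← t2, ← t4, ← t5, ← t8, ← t9] at rb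
  rw [← t2, ← t4, ← t8, ← t9, ← t6, ← t7, ← t3, ← t5] at rc
  -- elements of order 3 and 6
  have cube : ∀ g : GL (Fin 10) F, tr (g ^ 3) = tr g ^ 3 := fun g => by
    have := tr_pow_char 3 g 1
    rwa [pow_one] at this
  have cinj : ∀ a b : F, a ^ 3 = b ^ 3 → a = b := by
    intro a b h
    exact iterateFrobenius_inj F 3 1 (by rw [iterateFrobenius_def, iterateFrobenius_def, pow_one]; exact h)
  have hpw : ∀ w : List ℕ, (((e.symm (ev v11 w) : P) : GL (Fin 10) F)) ^ 3 =
      ((e.symm (ev v11 (w ++ (w ++ w))) : P) : GL (Fin 10) F) := by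
    intro w
    rw [ev_append, ev_append, map_mul, map_mul, Subgroup.coe_mul, Subgroup.coe_mul, pow_succ', pow_two]
  refine ⟨?_, ?_, ?_, ?_, ?_⟩
  · apply inj
    rw [map_zero, ← ra]
    simp only [map_add, map_mul, map_ofNat]
  · apply inj
    rw [map_zero, ← rb]
    simp only [map_add, map_mul, map_ofNat]
  · apply inj
    rw [map_zero, ← rc]
    simp only [map_add, map_mul, map_ofNat]
  · have h4 : ev v11 ([3, 0, 3, 0] ++ ([3, 0, 3, 0] ++ [3, 0, 3, 0])) = ev v11 [] := ev_eq (by decide +kernel)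
    have h5 := cube ((e.symm (ev v11 [3, 0, 3, 0]) : P) : GL (Fin 10) F)
    rw [hpw, h4, ← t0, ← t2] at h5
    have h6 := cube ((e.symm (ev v11 []) : P) : GL (Fin 10) F)
    rw [hpw, List.nil_append, List.nil_append, ← t0] at h6
    rw [sub_eq_zero]
    apply cinj
    rw [← h5, ← h6]
  · have h4 : ev v11 ([3, 0] ++ ([3, 0] ++ [3, 0])) = ev v11 [3, 0, 3, 0, 3, 0] := rfl
    have h5 := cube ((e.symm (ev v11 [3, 0]) : P) : GL (Fin 10) F)
    rw [hpw, h4, ← t1, ← t5] at h5
    have h6 := cube ((e.symm (ev v11 [3, 0, 3, 0, 3, 0]) : P) : GL (Fin 10) F)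
    have h7 : ev v11 ([3, 0, 3, 0, 3, 0] ++ ([3, 0, 3, 0, 3, 0] ++ [3, 0, 3, 0, 3, 0])) = ev v11 [3, 0, 3, 0, 3, 0] :=
      ev_eq (by decide +kernel)
    rw [hpw, h7, ← t1] at h6
    rw [sub_eq_zero]
    apply cinj
    rw [← h5, ← h6]

/-- **the trace hypothesis in characteristic three** -/
theorem htr_three (hC : Core P) [Fact (Nat.Prime 3)] [CharP F 3] (e : P ≃* Spor.M11) (hSD : ¬ SD P) :
    ∃ s : F, s * s = -2 ∧ HTr e s := by
  have h3 : (3 : F) = 0 := by
    have := CharP.cast_eq_zero F 3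
    exact_mod_cast this
  have h2 : (2 : F) ≠ 0 := by
    intro h
    apply one_ne_zero (α := F)
    linear_combination h3 - h
  have hs : (1 : F) * 1 = -2 := by linear_combination h3
  have hs' : (-1 : F) * -1 = -2 := by linear_combination h3
  have hq3 : ((3 : ℤ) : F) = 0 := by exact_mod_cast h3
  have hq0 : ((0 : ℤ) : F) = 0 := Int.cast_zero
  obtain ⟨ρb, hb⟩ := exists_rho hs h2
  obtain ⟨ρc, hc⟩ := exists_rho hs' h2
  obtain ⟨ρd, hd⟩ := pm10.exists_rho hs hq0
  obtain ⟨ρ6, h6⟩ := pm6.exists_rho hs hq3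
  let T : ℕ → F := fun i => tr ((e.symm (ev v11 (rv i)) : P) : GL (Fin 10) F)
  obtain ⟨hA, hB, hCc, hD, hE⟩ := rels hC e T (fun i => rfl)
  have hy : (ev v11 [2])⁻¹ = ev v11 [2, 2, 2, 2, 2, 2, 2] := by
    rw [inv_eq_iff_mul_eq_one, ← ev_append, ← ev_nil v11]
    exact sat_11.base (by decide +kernel)
  have hx : (ev v11 [5])⁻¹ = ev v11 [5, 5, 5, 5, 5, 5, 5, 5, 5, 5] := by
    rw [inv_eq_iff_mul_eq_one, ← ev_append, ← ev_nil v11]
    exact sat_11.base (by decide +kernel)
  -- the traces of the models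
  have tb : ∀ i < 10, (ρb (ev v11 (rv i))).trace = zf 1 (rt i) := fun i hi => trace_rho hs hb hi
  have tc : ∀ i < 10, (ρc (ev v11 (rv i))).trace = zf (-1) (rt i) := fun i hi => trace_rho hs' hc hi
  have td : ∀ i < 10, (ρd (ev v11 (rv i))).trace = zf 1 (rtD i) := fun i hi => by
    rw [pm10.trace hs hd hi, rtD_spec i hi]
  have t6 : ∀ i < 10, (ρ6 (ev v11 (rv i))).trace = zf 1 (rt6 i) := fun i hi => by
    rw [pm6.trace hs h6 hi, ← rt6_spec i hi, zf_red hq3]
  -- inverses of the representatives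
  have hinv : ∀ i < 10, IsConj (ev v11 (rv ([0, 1, 2, 3, 4, 5, 7, 6, 9, 8].getD i 0))) (ev v11 (rv i))⁻¹ := by
    intro i hi
    have key : ∀ (c w r w' : List ℕ), eqW ((w ++ w').flatMap W) (([] : List ℕ).flatMap W) = true →
        eqW ((c ++ r).flatMap W) ((w' ++ c).flatMap W) = true → IsConj (ev v11 r) (ev v11 w)⁻¹ := by
      intro c w r w' h1 h2
      have e1 : (ev v11 w)⁻¹ = ev v11 w' := by
        rw [inv_eq_iff_mul_eq_one, ← ev_append, ← ev_nil v11]
        exact ev_eq h1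
      have e2 := ev_eq h2
      rw [ev_append, ev_append] at e2
      rw [e1, isConj_iff]
      exact ⟨ev v11 c, by rw [e2, mul_inv_cancel_right]⟩
    interval_cases i
    · exact key [] [] [] [] (by decide +kernel) (by decide +kernel)
    · exact key [] [3, 0, 3, 0, 3, 0] [3, 0, 3, 0, 3, 0] [3, 0, 3, 0, 3, 0] (by decide +kernel) (by decide +kernel)
    · exact key [7] [3, 0, 3, 0] [3, 0, 3, 0] [3, 0, 3, 0, 3, 0, 3, 0] (by decide +kernel) (by decide +kernel)
    · exact key [3] [2, 2] [2, 2] [2, 2, 2, 2, 2, 2] (by decide +kernel) (by decide +kernel)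
    · exact key [7] [6] [6] [6, 6, 6, 6] (by decide +kernel) (by decide +kernel)
    · exact key [8] [3, 0] [3, 0] [3, 0, 3, 0, 3, 0, 3, 0, 3, 0] (by decide +kernel) (by decide +kernel)
    · exact key [] [2] [2, 2, 2, 2, 2, 2, 2] [2, 2, 2, 2, 2, 2, 2] (by decide +kernel) (by decide +kernel)
    · exact key [] [2, 2, 2, 2, 2, 2, 2] [2] [2] (by decide +kernel) (by decide +kernel)
    · exact key [] [5] [5, 5, 5, 5, 5, 5, 5, 5, 5, 5] [5, 5, 5, 5, 5, 5, 5, 5, 5, 5] (by decide +kernel) (by decide +kernel)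
    · exact key [] [5, 5, 5, 5, 5, 5, 5, 5, 5, 5] [5] [5] (by decide +kernel) (by decide +kernel)
  have t6d : ∀ i < 10, (dual ρ6 (ev v11 (rv i))).trace = zf 1 (rt6 ([0, 1, 2, 3, 4, 5, 7, 6, 9, 8].getD i 0)) := by
    intro i hi
    rw [dual_trace, trace_cls ρ6 (hinv i hi), t6]
    interval_cases i <;> norm_num
  let L : List (Rp Spor.M11 F) := [
    ⟨1, 1, -(T 0 - T 6 - T 7 + T 8) - (-T 0 - T 6 - T 7 - T 8)⟩,
    ⟨6, ρ6, T 0 - T 6 - T 7 + T 8⟩,
    ⟨6, dual ρ6, -T 0 - T 6 - T 7 - T 8⟩,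
    ⟨10, ρd, -T 0 + T 1 + T 6 + T 7⟩,
    ⟨10, ρb, -T 0 + T 1 + T 6 - T 7 + T 8⟩,
    ⟨10, ρc, T 1 - T 6 + T 7 - T 8⟩]
  have hsum : ∀ g, (rhoP e g).trace = (L.map fun r => r.c * (r.ρ g).trace).sum := by
    intro g
    obtain ⟨i, hi, -⟩ := exists_rep ⟨MulEquiv.refl Spor.M11⟩ orders_11.1 orders_11.2.1 orders_11.2.2.1
      orders_11.2.2.2 g
    rw [repsOf_eq] at hi
    have e1 : (rhoP e g).trace = T i := trace_cls _ hi
    rw [e1]
    simp only [L, List.map_cons, List.map_nil, List.sum_cons, List.sum_nil, trace_cls _ hi, tb i i.2, tc i i.2, td i i.2,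
      t6 i i.2, t6d i i.2, MonoidHom.one_apply, Matrix.trace_one, Fintype.card_fin]
    fin_cases i
    · simp [zf, rt, rt6, rtD]
      linear_combination (7 * T 0 - 10 * T 1 - 4 * T 6 - 4 * T 7) * h3
    · simp [zf, rt, rt6, rtD]
      linear_combination (1 * T 1) * h3
    · simp [zf, rt, rt6, rtD]
      linear_combination hD + (1 * T 0 - 1 * T 1 - 1 * T 6 - 1 * T 7) * h3
    · simp [zf, rt, rt6, rtD]
      linear_combination - hA + hB + hCc + (1 * T 0 - 1 * T 1 - 1 * T 2 - 2 * T 4 - 1 * T 5 - 2 * T 6 - 2 * T 7 + 1 * T 8 + 1 * T 9) * h3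
    · simp [zf, rt, rt6, rtD]
      linear_combination hA + hB + hD + hE + (- 1 * T 2 - 1 * T 4 - 1 * T 5 - 2 * T 8 - 2 * T 9) * h3
    · simp [zf, rt, rt6, rtD]
      linear_combination hE + (1 * T 6 + 1 * T 7) * h3
    · simp [zf, rt, rt6, rtD]
      linear_combination (1 * T 7 - 1 * T 8) * h3
    · simp [zf, rt, rt6, rtD]
      linear_combination (1 * T 6 + 1 * T 8) * h3
    · simp [zf, rt, rt6, rtD]
      linear_combination (- 1 * T 0 + 1 * T 1) * h3
    · simp [zf, rt, rt6, rtD]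
      linear_combination - hA + (1 * T 1 + 2 * T 8 + 2 * T 9) * h3
  have hsp := span_rhoP hC e
  obtain ⟨r, hr, hker⟩ := exists_ker (by norm_num) hsp L hsum
  have hle := le_of_ker hsp hker
  simp only [L, List.mem_cons, List.not_mem_nil, or_false] at hr
  rcases hr with rfl | rfl | rfl | rfl | rfl | rfl
  · exact absurd hle (by norm_num)
  · exact absurd hle (by norm_num)
  · exact absurd hle (by norm_num)
  · exfalso
    apply hSD
    have ht : ∀ i < 10, T i = zf 1 (rtD i) := fun i hi => by rw [← td i hi]; exact trace_of_ker hsp hker _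
    apply sd_of_real e
    · exact (ht 7 (by norm_num)).trans (ht 6 (by norm_num)).symm
    · exact (ht 9 (by norm_num)).trans (ht 8 (by norm_num)).symm
  · exact ⟨1, hs, fun i hi => by rw [← tb i hi]; exact trace_of_ker hsp hker _⟩
  · exact ⟨-1, hs', fun i hi => by rw [← tc i hi]; exact trace_of_ker hsp hker _⟩

/-- **`SL_10(F)` : cores with socle `M11` are not maximal.** -/
theorem kill_linear {H P : Subgroup (GL (Fin 10) F)}
    (hH : IsMaximalIn (specialLinear (Fin 10) F) H)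
    (hR : IsResidualCore H P) (h : Spor.IsoM11 (Soc P)) (h2 : (2 : F) ≠ 0) (hSD : ¬ SD P) : False := by
  by_cases h3 : (3 : F) = 0
  · have hC := core_of_residual hR
    obtain ⟨e, -⟩ := exists_letters hC h
    have : Fact (Nat.Prime 3) := ⟨Nat.prime_three⟩
    have : CharP F 3 := by
      obtain ⟨p, hp⟩ := CharP.exists F
      have h4 : p ∣ 3 := (CharP.cast_eq_zero_iff F p 3).1 (by exact_mod_cast h3)
      rcases (Nat.dvd_prime Nat.prime_three).1 h4 with h5 | h5
      · subst h5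
        exact absurd (CharP.cast_eq_zero F 1) (by rw [Nat.cast_one]; exact one_ne_zero)
      · subst h5
        exact hp
    obtain ⟨s, hs, htr⟩ := htr_three hC e hSD
    exact kill_core hH hR e hs h2 htr (fun _ => sgl_det _ _ _) (fun _ h _ => h)
  · exact kill_linear_ne_three hH hR h h2 h3 hSD

end Cfsg.Agent.H840.M11
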