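import Cfsg.Agent.H840.M11.Rho

/-!
# Traces of the ten-dimensional representation, the additional element
-/

set_option autoImplicit false
set_option linter.unusedSectionVars false
set_option linter.unusedVariables false
set_option maxRecDepth 100000

namespace Cfsg.Agent.H840.M11

open Cfsg Cfsg.Agent.CoThreeStd.MTwelve Cfsg.Agent.H6.M11 Cfsg.Agent.SporadicStructure.M11InvPerms
open scoped Matrix

/-- class representatives, words in the letters -/
def rv (i : ℕ) : List ℕ := [[], [3, 0, 3, 0, 3, 0], [3, 0, 3, 0], [2, 2], [6], [3, 0], [2], [2, 2, 2, 2, 2, 2, 2], [5],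
  [5, 5, 5, 5, 5, 5, 5, 5, 5, 5]].getD i []

/-- class representatives, words in the generators -/
def rg (i : ℕ) : List ℕ := [[], [0, 0, 1, 0, 0], [0, 0, 1, 2, 1, 0, 1, 1, 0, 0, 1], [2, 0, 2, 1, 0, 2, 1, 0, 1],
  [2, 1, 1, 2, 1, 0, 0, 0, 1], [2, 0, 2, 0, 1, 0, 0, 0], [2, 0, 0, 1, 1, 2, 1, 0, 1, 2], [0, 2, 0, 0, 0, 1, 1, 2],
  [2, 0, 0, 1, 1, 2, 0, 0], [1, 2, 0, 1, 1, 0, 1, 2, 1]].getD i []

/-- the traces -/
def rt (i : ℕ) : Zs := [(10, 0), (-2, 0), (1, 0), (0, 0), (0, 0), (1, 0), (0, 1), (0, -1), (-1, 0), (-1, 0)].getD i (0, 0)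

theorem rv_rg : ∀ i < 10, eqW ((rv i).flatMap W) (((rg i).flatMap UL).flatMap W) = true := by decide +kernel

theorem rg_lt : ∀ i < 10, (rg i).all (fun j => decide (j < 3)) = true := by decide +kernel

theorem rt_spec : ∀ i < 10, trw 10 ((rg i).map Mt) = rt i := by decide +kernel

theorem ev_rv {i : ℕ} (hi : i < 10) : ev v11 (rv i) = ev gu (rg i) := by
  rw [ev_gu]
  exact ev_eq (rv_rg i hi)

/-- the representatives -/
theorem repsOf_eq (i : Fin 10) : repsOf (ev v11 [3, 0]) (ev v11 [2]) (ev v11 [6]) (ev v11 [5]) i = ev v11 (rv i) := by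
  have hy : (ev v11 [2])⁻¹ = ev v11 [2, 2, 2, 2, 2, 2, 2] := by
    rw [inv_eq_iff_mul_eq_one, ← ev_append, ← ev_nil v11]
    exact sat_11.base (by decide +kernel)
  have hx : (ev v11 [5])⁻¹ = ev v11 [5, 5, 5, 5, 5, 5, 5, 5, 5, 5] := by
    rw [inv_eq_iff_mul_eq_one, ← ev_append, ← ev_nil v11]
    exact sat_11.base (by decide +kernel)
  fin_cases i
  · rfl
  · exact ev_pow v11 [3, 0] 3
  · exact ev_pow v11 [3, 0] 2
  · exact ev_pow v11 [2] 2
  · rfl
  · rfl
  · rfl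
  · exact hy
  · rfl
  · exact hx

section F

variable {F : Type*} [Field F] {s : F}

theorem rho_ev {ρ : Spor.M11 →* Matrix (Fin 10) (Fin 10) F} (hρ : ∀ i < 3, ρ (gu i) = tm s 10 (Mt i)) :
    ∀ {w : List ℕ}, w.all (fun j => decide (j < 3)) = true → ρ (ev gu w) = ((w.map Mt).map (tm s 10)).prod := by
  intro w
  induction w with
  | nil => intro _; rw [ev_nil, map_one]; rfl
  | cons i w ih =>
    intro h
    rw [List.all_cons, Bool.and_eq_true] at h
    rw [ev_cons, map_mul, hρ i (of_decide_eq_true h.1), ih h.2]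
    rfl

theorem ok_map {w : List ℕ} (h : w.all (fun j => decide (j < 3)) = true) : ∀ M ∈ w.map Mt, okm 10 M = true := by
  intro M hM
  obtain ⟨i, hi, rfl⟩ := List.mem_map.1 hM
  exact okM i (of_decide_eq_true (List.all_eq_true.1 h i hi))

theorem trace_rho (hs : s * s = -2) {ρ : Spor.M11 →* Matrix (Fin 10) (Fin 10) F}
    (hρ : ∀ i < 3, ρ (gu i) = tm s 10 (Mt i)) {i : ℕ} (hi : i < 10) : (ρ (ev v11 (rv i))).trace = zf s (rt i) := by
  rw [ev_rv hi, rho_ev hρ (rg_lt i hi), trace_spec hs (ok_map (rg_lt i hi)), rt_spec i hi]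

end F

/-! ### the additional element -/

theorem g_sq : ∀ j < 10, eqv 0 10 (app [Gg, Gg] (bv 10 j)) (app [] (bv 10 j)) = true := by decide +kernel

theorem g_u1 : ∀ j < 10, eqv 0 10 (app [Gg, U1, Gg, U1] (bv 10 j)) ((app [] (bv 10 j)).map zn) = true := by
  decide +kernel

theorem g_u2 : ∀ j < 10, eqv 0 10 (app [Gg, U2] (bv 10 j)) (app [U2, Gg] (bv 10 j)) = true := by decide +kernel

theorem g_a : ∀ j < 10, eqv 0 10 (app [Gg, Aa, Gg] (bv 10 j)) (app [Aa, Gg, Aa] (bv 10 j)) = true := by decide +kernel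

section F

variable {F : Type*} [Field F] {s : F}

theorem oks : ∀ M ∈ ([Gg, U1, U2, Aa] : List (List (List Zs))), okm 10 M = true := by
  obtain ⟨-, h1, h2, h3, h4, -⟩ := OT_ok
  intro M hM
  simp only [List.mem_cons, List.not_mem_nil, or_false] at hM
  rcases hM with rfl | rfl | rfl | rfl
  · exact h4
  · exact h1
  · exact h2
  · exact h3

theorem G_rel (hs : s * s = -2) :
    tm s 10 Gg * tm s 10 Gg = 1 ∧
    tm s 10 Gg * tm s 10 (Mt 0) * (tm s 10 Gg * tm s 10 (Mt 0)) = -1 ∧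
    tm s 10 Gg * tm s 10 (Mt 1) = tm s 10 (Mt 1) * tm s 10 Gg ∧
    tm s 10 Gg * tm s 10 (Mt 2) * tm s 10 Gg = tm s 10 (Mt 2) * tm s 10 Gg * tm s 10 (Mt 2) := by
  have ok : ∀ Ms : List (List (List Zs)), (∀ M ∈ Ms, M = Gg ∨ M = U1 ∨ M = U2 ∨ M = Aa) → ∀ M ∈ Ms, okm 10 M = true := by
    intro Ms h M hM
    rcases h M hM with rfl | rfl | rfl | rfl <;> exact oks _ (by simp)
  have e0 : Mt 0 = U1 := rfl
  have e1 : Mt 1 = U2 := rfl
  have e2 : Mt 2 = Aa := rfl
  refine ⟨?_, ?_, ?_, ?_⟩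
  · have := prod_eq hs (z0 (F := F)) (ok [Gg, Gg] (by simp)) (ok [] (by simp)) g_sq
    simpa using this
  · have := prod_neg hs (z0 (F := F)) (ok [Gg, U1, Gg, U1] (by simp)) (ok [] (by simp)) g_u1
    rw [e0]
    simpa [Matrix.mul_assoc] using this
  · have := prod_eq hs (z0 (F := F)) (ok [Gg, U2] (by simp)) (ok [U2, Gg] (by simp)) g_u2
    rw [e1]
    simpa using this
  · have := prod_eq hs (z0 (F := F)) (ok [Gg, Aa, Gg] (by simp)) (ok [Aa, Gg, Aa] (by simp)) g_a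
    rw [e2]
    simpa [Matrix.mul_assoc] using this

end F

end Cfsg.Agent.H840.M11
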