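import Cfsg.Agent.H6.M11.Main11
import Cfsg.Agent.H840.M11.TrZ

/-!
# Ten-dimensional representations of `M11` with non-real traces, characteristic not 2, 3
-/

set_option autoImplicit false
set_option linter.unusedSectionVars false
set_option linter.unusedVariables false
set_option maxRecDepth 100000

namespace Cfsg.Agent.H840.M11

open Module LinearMap
open Cfsg Cfsg.Agent.CoThreeStd.MTwelve Cfsg.Agent.H6.M11

/-! ### a trace identity in dimension two -/

section two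

variable {k : Type*} [Field k] {V : Type*} [AddCommGroup V] [Module k V] [FiniteDimensional k V]

theorem trace_restr {W : Submodule k V} {Q A : End k V} (hQ : IsProj W Q) (hA : ∀ x ∈ W, A x ∈ W) :
    LinearMap.trace k V (A * Q) = LinearMap.trace k W (A.restrict hA) := by
  have h1 : A * Q = W.subtype ∘ₗ ((A.restrict hA) ∘ₗ (Q.codRestrict W hQ.map_mem)) := by
    ext x
    rfl
  have h2 : ((A.restrict hA) ∘ₗ (Q.codRestrict W hQ.map_mem)) ∘ₗ W.subtype = A.restrict hA := by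
    ext x
    change A (Q x) = A x
    rw [hQ.map_id x x.2]
  rw [h1, LinearMap.trace_comp_comm', h2]

theorem cubic {W : Type*} [AddCommGroup W] [Module k W] (hW : finrank k W = 2) (B : End k W) :
    LinearMap.trace k W B ^ 3 - 3 * LinearMap.trace k W B * LinearMap.trace k W (B ^ 2) +
      2 * LinearMap.trace k W (B ^ 3) = 0 := by
  have : FiniteDimensional k W := FiniteDimensional.of_finrank_pos (by omega)
  let b : Basis (Fin 2) k W := Module.finBasisOfFinrankEq k W hW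
  rw [LinearMap.trace_eq_matrix_trace k b, LinearMap.trace_eq_matrix_trace k b, LinearMap.trace_eq_matrix_trace k b,
    ← LinearMap.toMatrix_pow, ← LinearMap.toMatrix_pow]
  generalize LinearMap.toMatrix b b B = M
  rw [pow_succ M 2, pow_two M]
  simp only [Matrix.trace_fin_two, Matrix.mul_apply, Fin.sum_univ_two]
  ring

theorem cubic_proj {W : Submodule k V} {Q A : End k V} (hQ : IsProj W Q) (hA : ∀ x ∈ W, A x ∈ W)
    (hW : finrank k W = 2) :
    LinearMap.trace k V (A * Q) ^ 3 - 3 * LinearMap.trace k V (A * Q) * LinearMap.trace k V (A ^ 2 * Q) +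
      2 * LinearMap.trace k V (A ^ 3 * Q) = 0 := by
  have hp : ∀ n : ℕ, ∀ x ∈ W, (A ^ n) x ∈ W := by
    intro n
    induction n with
    | zero => intro x hx; exact hx
    | succ n ih => intro x hx; rw [pow_succ, Module.End.mul_apply]; exact ih _ (hA x hx)
  have h := cubic hW (A.restrict hA)
  rw [Module.End.pow_restrict 2 hA, Module.End.pow_restrict 3 hA] at h
  rw [trace_restr hQ hA, trace_restr hQ (hp 2), trace_restr hQ (hp 3)]
  exact h

end two

section main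

variable {k : Type*} [Field k] {V : Type*} [AddCommGroup V] [Module k V] [FiniteDimensional k V]
  {R : Spor.M11 →* End k V} {ω : k}

theorem tw_conj (c : List ℕ) {w r : List ℕ} (h : eqW ((c ++ w).flatMap W) ((r ++ c).flatMap W) = true) :
    tw v11 R w = tw v11 R r := by
  have h1 := ev_eq h
  rw [ev_append, ev_append] at h1
  have h2 : ev v11 w = (ev v11 c)⁻¹ * ev v11 r * ev v11 c := by rw [mul_assoc, ← h1, inv_mul_cancel_left]
  unfold tw op
  rw [h2, map_mul, LinearMap.trace_mul_comm, ← map_mul, mul_inv_cancel_left]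

/-- the traces at elements of a coset -/
theorem vals_a :
    (tw v11 R [4, 8] + tw v11 R [4, 8, 1] + tw v11 R [4, 8, 1, 1]) +
      (tw v11 R [4, 8, 0] + tw v11 R [4, 8, 0, 1] + tw v11 R [4, 8, 0, 1, 1]) +
      (tw v11 R [4, 8, 0, 0] + tw v11 R [4, 8, 0, 0, 1] + tw v11 R [4, 8, 0, 0, 1, 1]) +
    ((tw v11 R [4, 8, 2, 2, 2, 2] + tw v11 R [4, 8, 2, 2, 2, 2, 1] + tw v11 R [4, 8, 2, 2, 2, 2, 1, 1]) +
      (tw v11 R [4, 8, 2, 2, 2, 2, 0] + tw v11 R [4, 8, 2, 2, 2, 2, 0, 1] + tw v11 R [4, 8, 2, 2, 2, 2, 0, 1, 1]) +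
      (tw v11 R [4, 8, 2, 2, 2, 2, 0, 0] + tw v11 R [4, 8, 2, 2, 2, 2, 0, 0, 1] +
        tw v11 R [4, 8, 2, 2, 2, 2, 0, 0, 1, 1])) =
    2 * tw v11 R [3] + 4 * tw v11 R [0] + 4 * tw v11 R [2, 2] + 8 * tw v11 R [6] := by
  have a0 : tw v11 R [4, 8] = tw v11 R [6] := tw_conj [0, 1, 4, 2, 5] (by decide +kernel)
  have a1 : tw v11 R [4, 8, 1] = tw v11 R [6] := tw_conj [1, 5, 5, 4] (by decide +kernel)
  have a2 : tw v11 R [4, 8, 1, 1] = tw v11 R [0] := tw_conj [2, 6, 5, 0] (by decide +kernel)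
  have a3 : tw v11 R [4, 8, 0] = tw v11 R [6] := tw_conj [0, 5, 5, 8] (by decide +kernel)
  have a4 : tw v11 R [4, 8, 0, 1] = tw v11 R [0] := tw_conj [2, 4, 3, 7] (by decide +kernel)
  have a5 : tw v11 R [4, 8, 0, 1, 1] = tw v11 R [6] := tw_conj [1, 6, 6, 6] (by decide +kernel)
  have a6 : tw v11 R [4, 8, 0, 0] = tw v11 R [3] := tw_conj [1, 6, 2] (by decide +kernel)
  have a7 : tw v11 R [4, 8, 0, 0, 1] = tw v11 R [2, 2] := tw_conj [5, 6, 4, 7] (by decide +kernel)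
  have a8 : tw v11 R [4, 8, 0, 0, 1, 1] = tw v11 R [2, 2] := tw_conj [7, 6, 4, 7] (by decide +kernel)
  have a9 : tw v11 R [4, 8, 2, 2, 2, 2] = tw v11 R [6] := tw_conj [0, 6, 0, 2] (by decide +kernel)
  have a10 : tw v11 R [4, 8, 2, 2, 2, 2, 1] = tw v11 R [2, 2] := tw_conj [3, 1, 6, 2] (by decide +kernel)
  have a11 : tw v11 R [4, 8, 2, 2, 2, 2, 1, 1] = tw v11 R [6] := tw_conj [0, 5, 8, 4, 6] (by decide +kernel)
  have a12 : tw v11 R [4, 8, 2, 2, 2, 2, 0] = tw v11 R [3] := tw_conj [4] (by decide +kernel)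
  have a13 : tw v11 R [4, 8, 2, 2, 2, 2, 0, 1] = tw v11 R [0] := tw_conj [4, 7, 2] (by decide +kernel)
  have a14 : tw v11 R [4, 8, 2, 2, 2, 2, 0, 1, 1] = tw v11 R [0] := tw_conj [4, 2, 1] (by decide +kernel)
  have a15 : tw v11 R [4, 8, 2, 2, 2, 2, 0, 0] = tw v11 R [6] := tw_conj [0, 6, 2, 7] (by decide +kernel)
  have a16 : tw v11 R [4, 8, 2, 2, 2, 2, 0, 0, 1] = tw v11 R [6] := tw_conj [1, 2, 6, 6, 7] (by decide +kernel)
  have a17 : tw v11 R [4, 8, 2, 2, 2, 2, 0, 0, 1, 1] = tw v11 R [2, 2] := tw_conj [3, 6, 8, 5] (by decide +kernel)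
  rw [a0, a1, a2, a3, a4, a5, a6, a7, a8, a9, a10, a11, a12, a13, a14, a15, a16, a17]
  ring

theorem vals_b :
    (tw v11 R [6] + tw v11 R [6, 1] + tw v11 R [6, 1, 1]) +
      (tw v11 R [6, 0] + tw v11 R [6, 0, 1] + tw v11 R [6, 0, 1, 1]) +
      (tw v11 R [6, 0, 0] + tw v11 R [6, 0, 0, 1] + tw v11 R [6, 0, 0, 1, 1]) +
    ((tw v11 R [6, 2, 2, 2, 2] + tw v11 R [6, 2, 2, 2, 2, 1] + tw v11 R [6, 2, 2, 2, 2, 1, 1]) +
      (tw v11 R [6, 2, 2, 2, 2, 0] + tw v11 R [6, 2, 2, 2, 2, 0, 1] + tw v11 R [6, 2, 2, 2, 2, 0, 1, 1]) +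
      (tw v11 R [6, 2, 2, 2, 2, 0, 0] + tw v11 R [6, 2, 2, 2, 2, 0, 0, 1] +
        tw v11 R [6, 2, 2, 2, 2, 0, 0, 1, 1])) =
    tw v11 R [3] + tw v11 R [0] + tw v11 R [2, 2] + 4 * tw v11 R [6] + 5 * tw v11 R [3, 0] + tw v11 R [2] +
      tw v11 R [2, 2, 2, 2, 2, 2, 2] + 2 * (tw v11 R [5] + tw v11 R [5, 5, 5, 5, 5, 5, 5, 5, 5, 5]) := by
  have b1 : tw v11 R [6, 1] = tw v11 R [3, 0] := tw_conj [4, 8, 5, 6] (by decide +kernel)
  have b2 : tw v11 R [6, 1, 1] = tw v11 R [2, 2] := tw_conj [4, 5, 3] (by decide +kernel)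
  have b3 : tw v11 R [6, 0] = tw v11 R [0] := tw_conj [6, 4] (by decide +kernel)
  have b4 : tw v11 R [6, 0, 1] = tw v11 R [3, 0] := tw_conj [2, 4, 8] (by decide +kernel)
  have b5 : tw v11 R [6, 0, 1, 1] = tw v11 R [6] := tw_conj [3, 2, 2] (by decide +kernel)
  have b6 : tw v11 R [6, 0, 0] = tw v11 R [3, 0] := tw_conj [4, 1] (by decide +kernel)
  have b7 : tw v11 R [6, 0, 0, 1] = tw v11 R [3, 0] := tw_conj [4, 2, 5] (by decide +kernel)
  have b8 : tw v11 R [6, 0, 0, 1, 1] = tw v11 R [3, 0] := tw_conj [5, 0, 1, 6] (by decide +kernel)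
  have b9 : tw v11 R [6, 2, 2, 2, 2] = tw v11 R [6] := tw_conj [0, 8, 4] (by decide +kernel)
  have b10 : tw v11 R [6, 2, 2, 2, 2, 1] = tw v11 R [2] := tw_conj [1, 6, 0, 4] (by decide +kernel)
  have b11 : tw v11 R [6, 2, 2, 2, 2, 1, 1] = tw v11 R [5, 5, 5, 5, 5, 5, 5, 5, 5, 5] := tw_conj [0, 3, 2, 6] (by decide +kernel)
  have b12 : tw v11 R [6, 2, 2, 2, 2, 0] = tw v11 R [5] := tw_conj [2, 7, 6, 0] (by decide +kernel)
  have b13 : tw v11 R [6, 2, 2, 2, 2, 0, 1] = tw v11 R [5, 5, 5, 5, 5, 5, 5, 5, 5, 5] := tw_conj [1, 5, 5, 7] (by decide +kernel)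
  have b14 : tw v11 R [6, 2, 2, 2, 2, 0, 1, 1] = tw v11 R [3] := tw_conj [5, 2, 6] (by decide +kernel)
  have b15 : tw v11 R [6, 2, 2, 2, 2, 0, 0] = tw v11 R [2, 2, 2, 2, 2, 2, 2] := tw_conj [5, 3] (by decide +kernel)
  have b16 : tw v11 R [6, 2, 2, 2, 2, 0, 0, 1] = tw v11 R [6] := tw_conj [2, 4, 3] (by decide +kernel)
  have b17 : tw v11 R [6, 2, 2, 2, 2, 0, 0, 1, 1] = tw v11 R [5] := tw_conj [0, 0, 4, 7, 2] (by decide +kernel)
  rw [b1, b2, b3, b4, b5, b6, b7, b8, b9, b10, b11, b12, b13, b14, b15, b16, b17]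
  ring

theorem vals_c :
    (tw v11 R [2, 2, 2] + tw v11 R [2, 2, 2, 1] + tw v11 R [2, 2, 2, 1, 1]) +
      (tw v11 R [2, 2, 2, 0] + tw v11 R [2, 2, 2, 0, 1] + tw v11 R [2, 2, 2, 0, 1, 1]) +
      (tw v11 R [2, 2, 2, 0, 0] + tw v11 R [2, 2, 2, 0, 0, 1] + tw v11 R [2, 2, 2, 0, 0, 1, 1]) =
    9 * tw v11 R [2] := by
  have c0 : tw v11 R [2, 2, 2] = tw v11 R [2] := tw_conj [3] (by decide +kernel)
  have c1 : tw v11 R [2, 2, 2, 1] = tw v11 R [2] := tw_conj [8, 2] (by decide +kernel)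
  have c2 : tw v11 R [2, 2, 2, 1, 1] = tw v11 R [2] := tw_conj [3, 7] (by decide +kernel)
  have c3 : tw v11 R [2, 2, 2, 0] = tw v11 R [2] := tw_conj [1, 8] (by decide +kernel)
  have c4 : tw v11 R [2, 2, 2, 0, 1] = tw v11 R [2] := tw_conj [1, 3] (by decide +kernel)
  have c5 : tw v11 R [2, 2, 2, 0, 1, 1] = tw v11 R [2] := tw_conj [8, 0] (by decide +kernel)
  have c6 : tw v11 R [2, 2, 2, 0, 0] = tw v11 R [2] := tw_conj [0, 2, 3] (by decide +kernel)
  have c7 : tw v11 R [2, 2, 2, 0, 0, 1] = tw v11 R [2] := tw_conj [8] (by decide +kernel)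
  have c8 : tw v11 R [2, 2, 2, 0, 0, 1, 1] = tw v11 R [2] := tw_conj [3, 1] (by decide +kernel)
  rw [c0, c1, c2, c3, c4, c5, c6, c7, c8]
  ring

/-- **the traces** -/
theorem traces (hω : IsPrimitiveRoot ω 3) (h2 : (2 : k) ≠ 0) (hE : op v11 R [0] ≠ 1)
    (hn : finrank k V = 10) (hy : tw v11 R [2, 2, 2, 2, 2, 2, 2] ≠ tw v11 R [2])
    (hr : tw v11 R [5, 5, 5, 5, 5, 5, 5, 5, 5, 5] = tw v11 R [5]) :
    tw v11 R [2] * tw v11 R [2] = -2 ∧ ∀ i < 10, tw v11 R (rv i) = zf (tw v11 R [2]) (rt i) := by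
  have h := sat_11
  have h3 : (3 : k) ≠ 0 := three_ne hω
  obtain ⟨f, α, β, ε, hε, -, hV, hCp, hCm, -, -, hαβ, hT2, hT6, hβ, hT3⟩ := h.cases (R := R) hω h2 hE (by omega) hy
  have hf : f = 0 := by omega
  subst hf
  have hβ0 : β = 0 := by omega
  subst hβ0
  have hε' : ε = -1 := by
    rw [Nat.cast_zero] at hβ
    linear_combination -hβ
  subst hε'
  have t2 : tw v11 R [3] = -2 := by rw [hT2, Nat.cast_zero]; ring
  have t3 : tw v11 R [0] = 1 := by rw [hT3, Nat.cast_zero]; ring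
  have t6 : tw v11 R [3, 0] = 1 := by linear_combination t2 - hT6
  -- no vectors fixed by `E` and `z`
  have hP0 : pP v11 R = 0 := by
    ext u
    have h6 := (h.isProj_pP (R := R) hω h2).map_mem u
    rw [Submodule.finrank_eq_zero.1 hCp, Submodule.mem_bot] at h6
    exact h6
  have rel : ∀ w : List ℕ, tE v11 R w + tE v11 R (w ++ [2, 2, 2, 2]) = 0 := by
    intro w
    have h6 := trace_pP (v := v11) (R := R) w
    rw [hP0, mul_zero, map_zero] at h6
    exact (mul_eq_zero.1 h6.symm).resolve_left (inv_ne_zero h2)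
  have r1 := rel [2]
  rw [show ([2] : List ℕ) ++ [2, 2, 2, 2] = [2, 2, 2, 2, 2] from rfl, h.tE_y h3, h.tE_y5 h3] at r1
  have r2 := rel [2, 2]
  rw [show ([2, 2] : List ℕ) ++ [2, 2, 2, 2] = [2, 2, 2, 2, 2, 2] from rfl, h.tE_yy h3, h.tE_y6 h3] at r2
  have t4 : tw v11 R [2, 2] = 0 := by
    have : (2 : k) * tw v11 R [2, 2] = 0 := by linear_combination r2
    exact (mul_eq_zero.1 this).resolve_left h2
  have t8 : tw v11 R [2, 2, 2, 2, 2, 2, 2] = -tw v11 R [2] := by linear_combination r1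
  have ty : tw v11 R [2] ≠ 0 := by
    intro h0
    apply hy
    rw [t8, h0, neg_zero]
  -- `y³`
  have t9 : tE v11 R [2, 2, 2] = tw v11 R [2] := by
    have h1 := h.nine_tE (R := R) h3 [2, 2, 2]
    simp only [List.cons_append, List.nil_append] at h1
    rw [vals_c] at h1
    exact mul_left_cancel₀ (nine_ne h3) h1
  -- the value of the trace of `y`
  have hfr : finrank k (Wt v11 R 1 1) = 2 := by
    have h10 := (two_dims h2 (h.isProj_pE (R := R) hω) (h.z_comm h3) h.zz_pE).1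
    have e1 : finrank k (Wt v11 R 1 1 ⊓ End.eigenspace (op v11 R [2, 2, 2, 2]) (-1) : Submodule k V) = 2 := hCm
    have e2 : finrank k (Wt v11 R 1 1 ⊓ End.eigenspace (op v11 R [2, 2, 2, 2]) 1 : Submodule k V) = 0 := hCp
    rw [e1, e2] at h10
    exact h10
  have hcub := cubic_proj (A := op v11 R [2]) (h.isProj_pE (R := R) hω) (by
    intro x hx
    have h11 := h.comm_word (R := R) h3 [2] (by decide)
    have h12 := congrArg (fun f : End k V => f x) h11
    simp only [Module.End.mul_apply] at h12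
    rw [(h.isProj_pE (R := R) hω).map_id x hx] at h12
    rw [h12]
    exact (h.isProj_pE (R := R) hω).map_mem _) hfr
  have p2 : (op v11 R [2]) ^ 2 = op v11 R [2, 2] := (op_replicate 2 2).symm
  have p3 : (op v11 R [2]) ^ 3 = op v11 R [2, 2, 2] := (op_replicate 3 2).symm
  rw [p2, p3] at hcub
  have q1 : LinearMap.trace k V (op v11 R [2] * pE v11 R) = tw v11 R [2] := h.tE_y h3
  have q2 : LinearMap.trace k V (op v11 R [2, 2] * pE v11 R) = 0 := (h.tE_yy h3).trans t4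
  have q3 : LinearMap.trace k V (op v11 R [2, 2, 2] * pE v11 R) = tw v11 R [2] := t9
  rw [q1, q2, q3] at hcub
  have hs : tw v11 R [2] * tw v11 R [2] = -2 := by
    apply mul_left_cancel₀ ty
    linear_combination hcub
  -- order 5
  have r3 := rel [4, 8]
  have t5 : tw v11 R [6] = 0 := by
    have h1 := h.nine_tE (R := R) h3 [4, 8]
    have h1' := h.nine_tE (R := R) h3 [4, 8, 2, 2, 2, 2]
    simp only [List.cons_append, List.nil_append] at h1 h1' r3
    have h4 := vals_a (R := R)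
    have h8 : (8 : k) ≠ 0 := by
      rw [show (8 : k) = 2 * 2 * 2 by norm_num]
      exact mul_ne_zero (mul_ne_zero h2 h2) h2
    have h5 : (8 : k) * tw v11 R [6] = 0 := by
      linear_combination -h4 - h1 - h1' + 9 * r3 - 2 * t2 - 4 * t3 - 4 * t4
    exact (mul_eq_zero.1 h5).resolve_left h8
  -- order 11
  have r4 := rel [6]
  have t11 : tw v11 R [5] = -1 := by
    have h1 := h.nine_tE (R := R) h3 [6]
    have h1' := h.nine_tE (R := R) h3 [6, 2, 2, 2, 2]
    simp only [List.cons_append, List.nil_append] at h1 h1' r4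
    have h4 := vals_b (R := R)
    have h5 : (2 : k) * 2 * (tw v11 R [5] + 1) = 0 := by
      linear_combination -h4 - h1 - h1' + 9 * r4 - t2 - t3 - t4 - 4 * t5 - 5 * t6 - t8 - 2 * hr
    have h6 := (mul_eq_zero.1 h5).resolve_left (mul_ne_zero h2 h2)
    linear_combination h6
  refine ⟨hs, ?_⟩
  intro i hi
  have c1 : tw v11 R [3, 0, 3, 0, 3, 0] = tw v11 R [3] := tw_conj [] (by decide +kernel)
  have c2 : tw v11 R [3, 0, 3, 0] = tw v11 R [0] := tw_conj [7] (by decide +kernel)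
  have c0 : tw v11 R [] = 10 := by rw [tw_nil, hn]; norm_num
  have hz : ∀ a b : ℤ, zf (tw v11 R [2]) (a, b) = (a : k) + (b : k) * tw v11 R [2] := fun a b => rfl
  interval_cases i
  · change tw v11 R [] = zf _ (10, 0)
    rw [c0, hz]; push_cast; ring
  · change tw v11 R [3, 0, 3, 0, 3, 0] = zf _ (-2, 0)
    rw [c1, hz, t2]; push_cast; ring
  · change tw v11 R [3, 0, 3, 0] = zf _ (1, 0)
    rw [c2, hz, t3]; push_cast; ring
  · change tw v11 R [2, 2] = zf _ (0, 0)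
    rw [hz, t4]; push_cast; ring
  · change tw v11 R [6] = zf _ (0, 0)
    rw [hz, t5]; push_cast; ring
  · change tw v11 R [3, 0] = zf _ (1, 0)
    rw [hz, t6]; push_cast; ring
  · change tw v11 R [2] = zf _ (0, 1)
    rw [hz]; push_cast; ring
  · change tw v11 R [2, 2, 2, 2, 2, 2, 2] = zf _ (0, -1)
    rw [hz, t8]; push_cast; ring
  · change tw v11 R [5] = zf _ (-1, 0)
    rw [hz, t11]; push_cast; ring
  · change tw v11 R [5, 5, 5, 5, 5, 5, 5, 5, 5, 5] = zf _ (-1, 0)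
    rw [hz, hr, t11]; push_cast; ring

end main

end Cfsg.Agent.H840.M11
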