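import Cfsg.Agent.H840.M11.Zs
import Cfsg.Agent.H6.M11.Reps

/-!
# The ten-dimensional representation of `M11` over `ℤ[√-2]` : data
-/

set_option autoImplicit false
set_option maxRecDepth 100000

namespace Cfsg.Agent.H840.M11

open Cfsg.Agent.CoThreeStd.MTwelve

/-- codes of the eleven points -/
def pc (i : ℕ) : ℕ := [1, 2, 3, 4, 6, 8, 9, 12, 13, 16, 18].getD i 0
/-- index of a code -/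
def ix (c : ℕ) : ℕ := [11, 0, 1, 2, 3, 11, 4, 11, 5, 6, 11, 11, 7, 8, 11, 11, 9, 11, 10, 11, 11, 11, 11, 11].getD c 11

/-- vectors of the triples `i < j < k` -/
def tabL : List (List (List (List Zs))) := [
  [[[(1,1),(2,0),(0,-1),(0,0),(1,0),(-1,0),(0,-1),(0,0),(0,1),(0,0)],
    [(5,-1),(5,2),(7,-2),(-5,-1),(0,1),(-1,-2),(0,-1),(2,-1),(1,-2),(-2,0)],
    [(0,0),(-1,1),(1,1),(-1,0),(0,0),(1,-1),(1,0),(1,0),(-1,0),(-2,0)],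
    [(-1,0),(-2,-2),(-2,1),(1,0),(-1,0),(-1,1),(0,0),(0,1),(1,1),(1,0)],
    [(-2,-6),(3,-2),(-1,-6),(0,4),(3,2),(-2,0),(-2,-1),(-1,-3),(-3,0),(-1,0)],
    [(1,2),(-2,-1),(-1,3),(0,0),(-2,0),(1,0),(1,1),(1,1),(0,0),(2,0)],
    [(-2,-1),(-2,-1),(-3,-1),(3,1),(3,-1),(-1,0),(0,0),(-2,-1),(0,1),(0,0)],
    [(-1,3),(-2,1),(-1,3),(1,-2),(-2,-1),(3,1),(-1,2),(0,2),(1,-1),(2,0)],
    [(-1,2),(-1,2),(0,2),(1,-2),(-2,-1),(1,1),(1,0),(-1,1),(1,0),(0,0)]],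
   [[(1,1),(2,-1),(-1,0),(0,0),(0,-1),(-1,0),(0,0),(-1,1),(0,0),(1,1)],
    [(-2,0),(-2,0),(-1,0),(2,0),(0,0),(1,2),(-1,0),(0,0),(0,0),(1,0)],
    [(-3,2),(-1,-1),(-4,1),(2,0),(1,-1),(1,0),(0,1),(-1,1),(0,1),(0,0)],
    [(0,1),(-2,0),(-1,1),(1,0),(1,0),(0,-1),(2,1),(0,0),(0,1),(0,-1)],
    [(-3,3),(-3,1),(-3,3),(3,-3),(-2,-2),(1,2),(-1,0),(-2,2),(3,1),(1,0)],
    [(2,-2),(3,-2),(1,-3),(-4,3),(-1,1),(-1,0),(0,0),(1,-1),(-3,-1),(1,1)],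
    [(1,-1),(3,1),(3,-1),(-2,0),(0,1),(-1,-1),(-1,-1),(1,-1),(0,0),(-1,1)],
    [(5,-3),(2,2),(6,-2),(-2,0),(2,2),(-1,-2),(1,-2),(2,-2),(0,-1),(-3,-2)]],
   [[(2,0),(-1,0),(0,1),(1,-1),(1,-1),(-1,0),(-1,-1),(0,0),(3,0),(-1,0)],
    [(1,1),(0,-1),(1,0),(-1,1),(0,1),(1,0),(0,1),(1,0),(-1,0),(2,0)],
    [(0,4),(-3,2),(0,4),(2,-2),(-2,-1),(2,0),(2,1),(0,2),(1,0),(2,-1)],
    [(5,-2),(4,1),(6,-2),(-4,1),(-1,1),(-3,-1),(1,-2),(2,-1),(0,-1),(-1,1)],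
    [(2,-1),(2,0),(2,-1),(-3,0),(0,2),(1,-1),(0,0),(1,0),(0,-1),(-1,-1)],
    [(-5,-1),(0,-1),(-4,-1),(3,0),(1,-2),(-1,1),(-1,0),(-3,0),(-1,1),(-1,1)],
    [(1,-1),(5,0),(1,-3),(-3,0),(1,0),(-1,-1),(-1,0),(0,-1),(-1,-1),(-1,1)]],
   [[(8,0),(4,4),(9,0),(-5,-2),(-2,2),(1,-2),(1,-2),(4,0),(1,-2),(-2,-1)],
    [(1,0),(-3,1),(2,2),(2,-1),(0,0),(0,0),(1,-1),(1,0),(1,1),(0,-1)],
    [(-2,0),(-4,-1),(-4,1),(4,1),(1,-1),(1,1),(0,1),(-1,0),(0,1),(1,-1)],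
    [(-7,0),(0,-1),(-6,-1),(3,0),(2,-2),(-1,2),(-3,0),(-4,0),(0,1),(-1,2)],
    [(0,0),(0,0),(0,0),(-1,0),(1,-1),(-1,0),(0,0),(0,0),(1,-1),(-1,1)],
    [(0,0),(-1,-2),(-1,0),(-1,1),(-1,1),(1,0),(0,1),(1,0),(-1,0),(1,0)]],
   [[(-2,-3),(2,-3),(-3,-4),(0,3),(3,-1),(-4,1),(-2,-1),(-2,-1),(-1,0),(-1,2)],
    [(3,1),(1,1),(3,1),(-2,-2),(-2,0),(1,0),(1,0),(2,1),(0,-1),(0,-1)],
    [(0,1),(1,2),(3,0),(-1,-1),(-1,1),(1,-1),(0,0),(1,0),(0,0),(0,0)],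
    [(1,0),(-1,-2),(-1,0),(1,2),(0,2),(1,0),(1,0),(1,0),(-1,1),(2,-1)],
    [(3,4),(-2,2),(2,5),(-1,-3),(-2,0),(3,-1),(1,1),(2,2),(3,0),(0,-1)]],
   [[(0,-1),(-2,2),(2,0),(1,0),(2,1),(0,-1),(1,-1),(1,-1),(0,0),(-2,-1)],
    [(1,-2),(0,0),(2,-1),(0,1),(1,0),(-2,0),(0,0),(0,-1),(0,-1),(0,0)],
    [(-4,0),(-2,-3),(-6,0),(2,1),(0,-1),(0,2),(-1,1),(-2,1),(-1,1),(2,0)],
    [(0,-1),(1,-1),(-1,-2),(2,2),(2,0),(-2,-1),(1,-1),(-1,-1),(-1,2),(0,0)]],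
   [[(2,5),(-5,3),(2,6),(2,-3),(-2,0),(3,0),(3,0),(2,2),(3,1),(1,-2)],
    [(1,-2),(1,-1),(0,-2),(0,1),(1,0),(-3,0),(0,-1),(0,-1),(0,0),(-1,0)],
    [(1,0),(-2,1),(1,2),(0,-1),(-3,-1),(1,1),(0,0),(1,1),(0,-1),(1,0)]],
   [[(2,2),(-1,3),(4,2),(-1,-1),(0,1),(1,-2),(3,0),(1,0),(0,0),(-1,-1)],
    [(-4,-2),(0,-2),(-3,-3),(1,2),(2,0),(-1,2),(-3,0),(-2,-1),(0,0),(1,1)]],
   [[(-5,1),(-2,-2),(-5,1),(3,1),(1,-1),(-1,1),(0,1),(-2,1),(-1,1),(1,1)]],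
   []],
  [[[(2,1),(0,1),(3,1),(-1,-1),(-1,1),(1,-1),(0,0),(2,0),(1,0),(0,0)],
    [(-1,1),(-4,1),(-1,2),(3,0),(1,0),(1,0),(1,0),(-1,0),(1,1),(0,-1)],
    [(4,1),(3,1),(4,1),(-5,-2),(-2,1),(1,-1),(0,0),(2,1),(1,-2),(-1,0)],
    [(-3,-5),(4,-3),(-3,-6),(0,3),(2,-1),(-4,1),(-2,-1),(-3,-2),(-3,0),(-1,2)],
    [(-6,1),(-3,-3),(-7,1),(4,1),(1,-2),(-1,2),(-1,2),(-3,1),(0,1),(2,1)],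
    [(-1,-2),(-1,0),(-1,-1),(1,1),(2,0),(-1,0),(0,-1),(0,-1),(0,0),(-2,0)],
    [(4,1),(-1,1),(3,2),(-1,-1),(-3,0),(1,0),(1,0),(2,1),(1,-1),(2,-1)],
    [(0,1),(0,2),(2,1),(-1,-1),(-1,1),(3,-1),(1,1),(1,0),(-1,0),(0,-1)]],
   [[(-3,3),(-1,-1),(-4,2),(0,-1),(-2,-1),(3,1),(-1,2),(-1,2),(0,0),(2,1)],
    [(-4,0),(-2,0),(-3,0),(4,0),(3,-1),(-1,0),(0,0),(-2,0),(0,1),(-1,0)],
    [(-1,-1),(3,0),(0,-2),(-1,1),(1,0),(-2,0),(-2,-1),(-1,-1),(0,0),(-1,2)],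
    [(2,0),(2,1),(2,0),(-1,-1),(-2,1),(1,-1),(1,0),(1,0),(-1,0),(0,-1)],
    [(3,-3),(0,0),(4,-1),(-2,1),(-1,1),(-1,0),(0,-1),(2,-1),(-1,-1),(0,0)],
    [(0,2),(-4,0),(-2,3),(2,-1),(0,-1),(1,0),(1,1),(0,1),(2,1),(0,-1)],
    [(0,1),(-3,-1),(-1,1),(2,1),(0,1),(1,1),(1,0),(1,0),(0,1),(2,-1)]],
   [[(-5,-1),(0,-2),(-5,-2),(2,1),(1,-1),(-1,2),(-3,0),(-3,0),(0,1),(1,1)],
    [(4,-1),(3,0),(4,-2),(-3,1),(1,3),(0,-2),(1,-1),(2,-1),(0,0),(-1,-1)],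
    [(3,0),(0,2),(4,1),(-3,-1),(-2,1),(1,0),(0,0),(2,0),(1,-2),(0,0)],
    [(-2,2),(-2,0),(-2,1),(2,0),(-1,-1),(1,1),(1,1),(-1,1),(-1,0),(2,0)],
    [(-3,3),(-4,2),(-2,4),(4,-3),(0,-1),(3,0),(0,1),(-1,1),(2,1),(0,-1)],
    [(-1,1),(-1,-3),(-5,1),(2,1),(0,-2),(-1,1),(0,1),(-2,1),(0,1),(2,1)]],
   [[(1,0),(-2,1),(1,1),(1,-1),(0,1),(2,0),(0,0),(1,0),(0,0),(0,-2)],
    [(2,3),(-1,3),(3,3),(-1,-2),(-1,0),(1,-2),(3,0),(1,1),(1,0),(-1,-1)],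
    [(1,2),(1,1),(1,1),(0,-1),(0,0),(1,0),(0,0),(0,1),(1,0),(1,0)],
    [(-2,-4),(5,-3),(-3,-6),(-2,3),(3,0),(-3,0),(-3,0),(-2,-2),(-2,-1),(-1,2)],
    [(-6,-1),(0,-1),(-4,-1),(2,0),(1,-2),(-1,2),(-3,0),(-3,0),(0,0),(-1,2)]],
   [[(-1,-1),(2,-3),(-2,-3),(-2,3),(1,1),(0,0),(-1,1),(0,-1),(-3,0),(1,1)],
    [(0,0),(0,1),(0,0),(1,-2),(0,-1),(0,1),(-2,-1),(-1,0),(3,0),(-1,0)],
    [(3,1),(2,1),(2,1),(-1,-1),(-1,0),(0,-1),(1,-1),(1,1),(0,0),(-1,0)],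
    [(1,-1),(1,1),(3,-1),(-1,0),(1,1),(-2,-1),(1,-1),(0,-1),(0,0),(-1,0)]],
   [[(3,0),(3,2),(4,-1),(-3,-1),(1,0),(-1,-2),(1,0),(1,-1),(0,-1),(-2,0)],
    [(-4,2),(-1,0),(-2,1),(1,0),(-2,0),(1,1),(0,1),(-1,1),(-1,1),(2,1)],
    [(0,-1),(0,-1),(-1,-1),(-1,1),(0,1),(1,0),(0,1),(0,0),(-1,-1),(0,-1)]],
   [[(-1,1),(-1,1),(0,1),(0,-2),(-1,-1),(1,2),(-1,0),(0,1),(1,-1),(0,0)],
    [(7,-1),(4,4),(9,-1),(-4,-1),(-1,1),(-1,-2),(1,-2),(3,-1),(1,-2),(-2,0)]],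
   [[(-2,3),(-2,1),(-3,3),(2,-3),(-2,-2),(1,1),(0,0),(-1,2),(2,1),(0,0)]],
   []],
  [[[(3,4),(-4,4),(4,6),(1,-4),(-4,0),(3,0),(3,0),(2,2),(3,0),(1,-2)],
    [(2,-1),(3,-1),(1,-2),(-3,1),(-1,1),(-1,0),(0,0),(1,0),(-1,-1),(0,0)],
    [(-3,-1),(0,-3),(-4,-2),(2,2),(3,0),(-2,0),(0,0),(-2,-1),(-1,2),(0,0)],
    [(-4,-1),(1,0),(-2,-1),(0,-1),(0,-2),(-1,2),(-3,0),(-2,0),(0,-1),(-1,2)],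
    [(3,-1),(1,1),(2,-1),(-1,0),(1,0),(1,-1),(0,0),(1,-1),(0,-1),(-1,-1)],
    [(-6,-3),(-1,-3),(-6,-3),(3,3),(2,0),(-1,2),(-3,0),(-3,-1),(-1,1),(1,1)],
    [(2,1),(-2,2),(3,2),(-1,0),(0,1),(1,-2),(3,0),(2,0),(-1,0),(-1,-1)]],
   [[(-1,2),(-1,0),(-1,2),(1,0),(-1,0),(1,0),(1,1),(0,1),(-1,0),(2,0)],
    [(2,0),(0,2),(2,1),(0,-2),(-1,0),(0,-1),(1,-1),(1,0),(1,0),(-2,-1)],
    [(-3,0),(-3,-2),(-4,1),(2,0),(0,0),(1,1),(0,1),(-1,1),(0,1),(1,-1)],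
    [(2,-1),(3,0),(2,-2),(-1,1),(1,0),(-3,-1),(1,-2),(0,-1),(0,1),(-1,1)],
    [(3,3),(1,1),(2,3),(-3,-2),(-4,0),(3,0),(0,1),(2,2),(1,-1),(1,0)],
    [(3,-1),(2,2),(5,-1),(-3,-1),(0,0),(-1,-1),(0,0),(1,-1),(1,-2),(-1,0)]],
   [[(-1,3),(-1,2),(1,2),(0,-1),(-2,0),(2,0),(2,1),(0,1),(-1,0),(1,0)],
    [(0,-1),(0,-2),(-1,-2),(0,2),(1,1),(-1,1),(-1,0),(0,-1),(0,0),(2,0)],
    [(-3,2),(-4,-1),(-5,3),(3,-1),(-2,-2),(1,2),(0,1),(-1,2),(0,1),(2,0)],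
    [(4,-2),(2,2),(5,-1),(-1,0),(1,0),(-3,-1),(1,-2),(1,-1),(1,-1),(-2,0)],
    [(0,-4),(3,-2),(0,-4),(-1,3),(1,2),(-1,-1),(-1,0),(0,-2),(-3,0),(0,0)]],
   [[(1,0),(-1,1),(2,1),(1,0),(-1,1),(0,0),(1,-1),(1,0),(0,1),(0,-1)],
    [(2,2),(-3,-1),(0,3),(0,0),(-2,1),(2,0),(2,1),(2,1),(0,0),(2,-1)],
    [(3,1),(3,3),(6,0),(-4,-2),(-1,1),(0,-2),(1,-1),(2,0),(1,-1),(-2,0)],
    [(-5,3),(-2,1),(-5,2),(4,-2),(1,-2),(2,1),(-1,1),(-3,1),(1,1),(0,0)]],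
   [[(-1,-4),(4,0),(2,-5),(-2,2),(1,2),(-1,0),(-1,-1),(0,-2),(-3,-1),(-1,0)],
    [(2,0),(-2,0),(2,1),(0,0),(0,1),(1,0),(0,0),(2,0),(0,0),(1,-1)],
    [(2,-2),(1,-1),(1,-1),(-2,1),(0,1),(-1,0),(0,-1),(1,-1),(0,0),(-1,0)]],
   [[(3,1),(2,1),(2,0),(-1,-1),(-1,1),(1,-1),(1,0),(1,0),(0,0),(1,-1)],
    [(-1,1),(-3,0),(-1,2),(3,-1),(-1,-1),(1,1),(1,0),(0,1),(0,1),(1,-1)]],
   [[(4,0),(3,2),(5,-1),(-3,-1),(0,2),(1,-1),(0,-1),(2,0),(1,-1),(-1,-1)]],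
   []],
  [[[(1,0),(2,1),(2,-1),(-2,0),(2,1),(-1,-2),(1,0),(0,-1),(0,0),(-2,0)],
    [(-4,1),(-1,-1),(-3,1),(1,0),(0,-1),(0,1),(-1,1),(-1,1),(0,0),(0,1)],
    [(-1,-4),(2,-2),(-1,-4),(-1,3),(1,0),(-3,0),(0,-1),(-1,-2),(-3,0),(-1,1)],
    [(0,-4),(2,-3),(-1,-4),(0,4),(2,2),(-1,0),(-1,0),(0,-2),(-3,0),(1,0)],
    [(1,-1),(2,2),(3,-2),(0,0),(1,0),(-1,-1),(0,-1),(0,-1),(0,0),(-1,0)],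
    [(1,1),(-1,0),(0,1),(0,-1),(-1,0),(1,1),(0,0),(1,1),(0,0),(1,-1)]],
   [[(1,2),(-2,-1),(-2,3),(1,0),(-1,-1),(0,-1),(2,1),(0,1),(0,1),(1,0)],
    [(0,-3),(3,1),(2,-3),(-1,1),(2,1),(-1,-1),(-1,-1),(0,-2),(-1,0),(-2,0)],
    [(1,0),(-1,1),(2,1),(-2,-1),(-1,0),(1,0),(0,1),(1,0),(1,-2),(0,0)],
    [(-4,2),(-3,1),(-4,2),(4,-2),(0,-2),(1,2),(-1,0),(-3,1),(2,1),(0,0)],
    [(4,-1),(4,1),(5,-2),(-4,0),(0,2),(-1,-2),(1,-2),(2,-1),(0,0),(-2,0)]],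
   [[(-3,2),(-2,-2),(-5,2),(2,-1),(-2,-2),(0,2),(-1,1),(-1,2),(1,1),(2,1)],
    [(2,4),(-2,3),(3,5),(-1,-3),(-3,0),(4,-1),(2,1),(2,2),(1,0),(0,-1)],
    [(-1,-3),(0,-2),(-1,-2),(-1,2),(0,1),(0,0),(-1,1),(0,-1),(-2,-1),(0,0)],
    [(3,-2),(1,0),(2,-1),(-1,1),(2,0),(-2,-1),(1,-1),(1,-1),(0,-1),(-2,0)]],
   [[(1,-1),(1,-2),(-1,-1),(-1,1),(0,0),(-1,0),(-1,0),(0,0),(0,0),(1,0)],
    [(-2,0),(-1,-1),(-3,0),(1,1),(1,0),(1,0),(0,0),(0,0),(-1,1),(-1,0)],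
    [(-6,-1),(-4,-2),(-6,-1),(5,2),(3,-1),(-1,1),(0,1),(-3,-1),(-1,2),(1,0)]],
   [[(-5,1),(-1,-4),(-7,0),(2,2),(0,-2),(-1,2),(-1,2),(-3,1),(-1,1),(3,2)],
    [(1,3),(-2,2),(2,4),(0,-2),(-2,1),(3,-1),(1,1),(2,1),(1,0),(1,-1)]],
   [[(0,1),(2,0),(0,-1),(-2,1),(-1,0),(1,0),(0,1),(0,0),(-2,-1),(1,1)]],
   []],
  [[[(0,-1),(-2,0),(0,0),(1,1),(1,1),(0,0),(1,-1),(1,-1),(0,1),(-1,-1)],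
    [(1,-3),(-1,-1),(2,-1),(-1,2),(0,1),(-1,0),(0,0),(1,-1),(-1,-1),(0,0)],
    [(-2,-1),(3,-1),(-2,-2),(0,0),(-1,-1),(-1,1),(-1,0),(-2,0),(-1,0),(0,1)],
    [(-1,4),(-3,0),(-2,4),(2,-2),(-2,-2),(1,1),(0,1),(0,2),(2,1),(2,1)],
    [(-1,0),(-2,-1),(-3,0),(2,0),(2,-1),(1,0),(0,1),(-1,0),(0,0),(0,-1)]],
   [[(-2,1),(-2,0),(-3,1),(2,-1),(0,-2),(0,2),(0,0),(-2,1),(1,0),(0,0)],
    [(-7,0),(-4,-2),(-7,0),(5,2),(1,-1),(0,2),(-1,1),(-3,0),(-1,2),(2,1)],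
    [(2,-2),(4,1),(3,-3),(-3,1),(2,1),(0,-2),(0,0),(1,-2),(-2,-1),(-2,0)],
    [(4,0),(1,-1),(2,0),(-3,1),(-2,1),(0,0),(0,0),(2,0),(0,-1),(2,0)]],
   [[(0,-1),(1,-1),(-1,-1),(1,1),(2,-1),(-3,0),(0,-1),(-1,0),(0,0),(-1,1)],
    [(-1,-2),(3,0),(1,-3),(-1,0),(1,0),(-1,1),(-3,-1),(-1,-1),(1,-1),(-1,1)],
    [(3,5),(-2,3),(4,5),(-1,-3),(-3,0),(3,-1),(3,1),(2,2),(1,0),(1,-1)]],
   [[(0,0),(-1,2),(1,2),(0,-2),(-2,-1),(1,0),(0,0),(0,1),(1,-1),(-1,0)],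
    [(-2,1),(-2,-2),(-4,1),(2,0),(0,-1),(-1,1),(0,1),(-1,1),(1,1),(1,0)]],
   [[(-1,-5),(4,-2),(0,-5),(-2,2),(1,0),(-3,1),(-3,-1),(-1,-2),(-2,-1),(-1,2)]],
   []],
  [[[(7,-1),(3,3),(8,-1),(-4,-1),(-1,1),(0,-2),(1,-1),(3,-1),(1,-2),(-1,-1)],
    [(0,-2),(5,0),(2,-3),(-3,0),(0,0),(-2,0),(-2,-1),(0,-1),(-1,-1),(-1,2)],
    [(-3,2),(-1,-1),(-4,1),(3,-1),(1,-1),(0,1),(-1,1),(-2,1),(2,1),(1,0)],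
    [(-3,0),(-2,-1),(-3,1),(1,0),(-1,0),(2,1),(-1,1),(-1,1),(0,0),(1,0)]],
   [[(-1,3),(0,0),(-2,2),(-1,-1),(-3,-1),(3,1),(-1,2),(0,2),(0,-1),(2,1)],
    [(0,-2),(2,-2),(-2,-3),(1,2),(2,-1),(-3,0),(0,-1),(-2,-1),(-1,1),(0,1)],
    [(2,1),(-1,3),(3,2),(1,-3),(0,0),(1,-1),(0,-1),(1,0),(3,0),(-2,-1)]],
   [[(3,0),(2,0),(2,0),(-2,0),(-1,0),(-1,0),(-1,-1),(1,0),(1,-1),(0,1)],
    [(-1,-3),(3,-2),(-1,-4),(-2,3),(3,1),(-1,-1),(-1,0),(0,-2),(-3,0),(-2,1)]],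
   [[(2,0),(3,-1),(1,-1),(-2,0),(0,0),(-1,-1),(0,0),(0,0),(0,0),(0,0)]],
   []],
  [[[(-6,0),(-3,-1),(-5,1),(4,0),(1,-2),(0,1),(-1,1),(-3,0),(0,1),(0,1)],
    [(3,0),(3,1),(3,0),(-4,-1),(0,1),(0,-2),(0,0),(1,0),(1,-1),(-2,0)],
    [(1,0),(2,-1),(0,-1),(0,1),(0,1),(0,0),(0,0),(0,0),(-1,0),(2,0)]],
   [[(-4,0),(-1,-2),(-5,-1),(3,1),(3,-1),(0,0),(-1,1),(-2,0),(-1,1),(0,0)],
    [(0,-2),(2,0),(0,-2),(-1,1),(1,0),(-2,-1),(1,-1),(-1,-1),(-1,0),(-2,0)]],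
   [[(-1,1),(-4,0),(-2,2),(3,0),(2,-1),(0,0),(0,0),(-1,0),(2,1),(0,0)]],
   []],
  [[[(3,-2),(2,-1),(3,-2),(-3,1),(0,2),(-1,-1),(0,-1),(2,-1),(0,0),(-1,0)],
    [(-1,0),(-3,0),(-2,1),(3,0),(0,0),(1,1),(0,0),(-1,0),(0,1),(1,-1)]],
   [[(4,2),(-3,2),(4,4),(-1,-2),(-3,1),(3,-1),(3,1),(3,1),(1,-1),(1,-2)]],
   []],
  [[[(-1,-3),(-1,0),(0,-2),(2,2),(2,1),(-1,0),(0,-1),(0,-2),(-1,1),(-1,-1)]],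
   []],
  [[]],
  []]

/-- the vector of the triple `i < j < k` -/
def tab (i j k : ℕ) : List Zs := ((tabL.getD i []).getD (j - i - 1) []).getD (k - j - 1) []

/-- the vector of a triple -/
def om (i j k : ℕ) : List Zs :=
  if i = j then [] else if j = k then [] else if i = k then [] else
  if i < j then
    if j < k then tab i j k else if i < k then (tab i k j).map zn else tab k i j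
  else
    if i < k then (tab j i k).map zn else if j < k then tab j k i else (tab k j i).map zn

/-- the matrix of `u₁` -/
def U1 : List (List Zs) := [
  [(1,1),(0,0),(0,1),(3,0),(0,0),(2,0),(3,-2),(3,0),(3,0),(-1,-4)],
  [(2,1),(-1,0),(-1,2),(4,2),(-1,-2),(1,1),(3,-1),(0,-1),(1,1),(1,-4)],
  [(2,0),(-1,0),(1,2),(4,-1),(-2,0),(2,0),(2,-3),(1,0),(3,0),(-3,-4)],
  [(-2,-1),(1,0),(0,-2),(-3,-1),(0,1),(-2,0),(-3,2),(-1,1),(-2,0),(0,4)],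
  [(0,1),(1,-1),(-2,-1),(-1,1),(1,0),(0,0),(1,1),(0,1),(-1,0),(3,0)],
  [(1,-1),(-1,0),(1,1),(0,-1),(0,0),(0,-1),(-1,-1),(0,-1),(0,-1),(-3,0)],
  [(0,0),(0,0),(0,0),(0,-1),(0,1),(1,0),(0,0),(1,0),(1,0),(-1,0)],
  [(1,0),(-1,0),(0,1),(1,0),(0,0),(1,0),(1,-1),(1,0),(1,0),(-1,-2)],
  [(0,0),(1,0),(1,-1),(0,-1),(0,0),(0,-1),(-1,-1),(0,0),(0,-1),(-2,0)],
  [(-1,0),(0,0),(0,0),(-1,0),(1,0),(-1,0),(0,0),(1,-1),(0,0),(0,1)]]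

/-- the matrix of `u₂` -/
def U2 : List (List Zs) := [
  [(-1,-1),(-1,0),(2,1),(1,-2),(-1,2),(0,2),(-5,0),(2,-2),(-1,0),(0,2)],
  [(0,-1),(0,0),(0,2),(3,0),(-2,0),(-1,0),(0,-2),(4,-1),(0,0),(-3,0)],
  [(-2,-1),(0,0),(3,1),(2,-3),(-2,2),(-1,2),(-5,-1),(2,-3),(0,0),(-1,3)],
  [(1,1),(0,-1),(-2,-1),(-2,1),(2,-1),(0,-1),(2,1),(-2,1),(0,0),(2,-1)],
  [(0,0),(1,0),(0,0),(1,0),(0,0),(0,-1),(2,-1),(1,1),(1,0),(-1,0)],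
  [(0,1),(0,0),(0,-1),(-2,0),(2,0),(1,0),(0,1),(-2,-1),(0,0),(2,0)],
  [(-1,0),(-1,0),(1,0),(-1,-1),(0,1),(0,1),(-2,1),(0,-1),(0,0),(1,1)],
  [(-1,0),(0,0),(1,0),(0,-1),(0,1),(0,1),(-2,0),(1,-1),(0,0),(1,1)],
  [(-1,0),(1,0),(1,-1),(-1,-1),(1,1),(1,0),(-1,1),(-1,0),(0,0),(1,1)],
  [(1,0),(-1,0),(-1,0),(-1,1),(1,-1),(0,0),(0,1),(-1,0),(-1,0),(1,-1)]]

/-- the matrix of `a` -/
def Aa : List (List Zs) := [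
  [(4,-1),(-4,-1),(-3,2),(1,2),(0,-2),(0,0),(-2,1),(-1,0),(-3,1),(-1,-2)],
  [(2,2),(-1,-2),(-3,0),(-1,2),(2,-1),(0,0),(-1,-1),(2,-1),(-2,-2),(1,-2)],
  [(5,-1),(-4,-1),(-3,2),(2,2),(0,-2),(0,0),(-3,1),(-1,-1),(-5,1),(-2,-2)],
  [(-2,-1),(1,1),(3,0),(0,-2),(-2,1),(-1,0),(0,-1),(-1,0),(2,0),(-1,2)],
  [(0,1),(1,-1),(-1,-1),(-1,0),(0,0),(-1,0),(-1,-1),(1,0),(0,-1),(1,0)],
  [(0,-1),(-1,1),(1,1),(1,0),(-1,0),(0,0),(1,1),(-1,0),(0,1),(-1,0)],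
  [(0,-1),(-1,1),(1,1),(1,0),(-1,0),(1,0),(0,1),(-1,0),(0,1),(-1,0)],
  [(2,-1),(-2,0),(-1,1),(1,1),(0,-1),(0,0),(-1,1),(-1,0),(-2,1),(-1,-1)],
  [(1,-1),(-1,0),(-1,1),(1,0),(-1,-1),(-1,0),(0,0),(0,0),(0,1),(-1,0)],
  [(-1,-1),(0,1),(2,0),(0,-1),(-1,1),(0,0),(0,0),(-1,1),(1,0),(-1,1)]]

/-- the matrix of `g` -/
def Gg : List (List Zs) := [
  [(1,0),(2,1),(1,-2),(2,-1),(1,0),(2,0),(-2,0),(-1,0),(-2,0),(-2,0)],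
  [(0,-1),(0,3),(2,-1),(2,1),(-1,0),(1,1),(-1,1),(-2,2),(-1,1),(-2,0)],
  [(1,0),(3,1),(0,-2),(3,-1),(0,0),(2,0),(-1,0),(0,1),(-1,0),(-2,0)],
  [(-1,1),(0,-2),(-1,1),(-2,0),(1,0),(-1,-1),(2,-1),(2,-1),(2,-1),(2,0)],
  [(0,1),(0,0),(1,0),(0,1),(1,0),(-1,0),(0,-1),(0,-1),(0,-1),(1,0)],
  [(0,0),(1,-1),(-2,0),(0,-1),(0,0),(1,0),(1,1),(1,0),(1,1),(1,0)],
  [(0,0),(1,-1),(-1,-1),(0,-1),(0,0),(-1,0),(-2,0),(1,0),(-1,0),(0,1)],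
  [(1,0),(1,0),(0,-1),(1,-1),(0,0),(1,0),(-1,0),(-1,0),(-1,0),(-1,0)],
  [(0,0),(1,0),(0,0),(0,0),(1,0),(1,-1),(1,0),(0,0),(0,0),(0,0)],
  [(1,0),(-2,-1),(-1,1),(-1,0),(0,-1),(0,0),(0,0),(-1,-1),(0,0),(0,-1)]]

/-- the matrix of the form -/
def Ph : List (List Zs) := [
  [(4,0),(-2,1),(-1,-1),(1,-1),(0,2),(-1,1),(-1,2),(-2,1),(-2,1),(-2,2)],
  [(-2,-1),(4,0),(0,2),(0,1),(1,-1),(1,1),(2,0),(2,-1),(2,0),(1,-1)],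
  [(-1,1),(0,-2),(4,0),(1,1),(-1,-1),(1,0),(-1,0),(-2,0),(0,0),(-2,-1)],
  [(1,1),(0,-1),(1,-1),(4,0),(-2,1),(0,0),(0,1),(0,0),(0,-1),(-3,1)],
  [(0,-2),(1,1),(-1,1),(-2,-1),(4,0),(1,1),(2,0),(1,1),(0,1),(3,1)],
  [(-1,-1),(1,-1),(1,0),(0,0),(1,-1),(4,0),(3,-1),(0,0),(2,0),(1,1)],
  [(-1,-2),(2,0),(-1,0),(0,-1),(2,0),(3,1),(6,0),(2,0),(3,0),(2,2)],
  [(-2,-1),(2,1),(-2,0),(0,0),(1,-1),(0,0),(2,0),(6,0),(2,0),(2,0)],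
  [(-2,-1),(2,0),(0,0),(0,1),(0,-1),(2,0),(3,0),(2,0),(4,0),(1,0)],
  [(-2,-2),(1,1),(-2,1),(-3,-1),(3,-1),(1,-1),(2,-2),(2,0),(1,0),(6,0)]]

/-- its inverse -/
def Ps : List (List Zs) := [
  [(20,0),(7,7),(21,1),(-12,-3),(-4,5),(1,-6),(5,-3),(10,-1),(2,-4),(-3,-3)],
  [(7,-7),(14,0),(9,-10),(-10,3),(2,3),(-5,-3),(-2,-3),(2,-4),(-3,-3),(-4,2)],
  [(21,-1),(9,10),(26,0),(-14,-4),(-4,6),(1,-7),(5,-4),(11,-2),(2,-5),(-5,-3)],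
  [(-12,3),(-10,-3),(-14,4),(12,0),(2,-4),(1,4),(-1,2),(-6,2),(1,4),(3,0)],
  [(-4,-5),(2,-3),(-4,-6),(2,4),(6,0),(-4,0),(-2,-1),(-3,-3),(-2,1),(-2,1)],
  [(1,6),(-5,3),(1,7),(1,-4),(-4,0),(6,0),(2,2),(2,3),(2,0),(2,-2)],
  [(5,3),(-2,3),(5,4),(-1,-2),(-2,1),(2,-2),(4,0),(3,1),(1,0),(0,-2)],
  [(10,1),(2,4),(11,2),(-6,-2),(-3,3),(2,-3),(3,-1),(6,0),(1,-2),(-1,-2)],
  [(2,4),(-3,3),(2,5),(1,-4),(-2,-1),(2,0),(1,0),(1,2),(4,0),(0,-1)],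
  [(-3,3),(-4,-2),(-5,3),(3,0),(-2,-1),(2,2),(0,2),(-1,2),(0,1),(4,0)]]

/-- indices of ten triples -/
def bt : List (ℕ × ℕ × ℕ) := [(2,7,10), (1,3,8), (0,5,8), (4,5,6), (3,6,8), (5,8,9), (0,7,9), (3,8,10), (1,3,4), (2,3,9)]

/-- coefficients -/
def cb : List (List Zs) := [
  [(-10,-3),(2,3),(-4,-5),(2,1),(6,2),(-2,1),(4,2),(8,0),(0,4),(4,6)],
  [(-24,47),(18,-11),(-38,25),(14,-9),(14,-26),(16,5),(20,-20),(-8,-40),(40,-4),(50,-20)],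
  [(84,71),(-6,-31),(22,65),(-8,-25),(-44,-40),(26,-13),(-26,-42),(-100,-28),(28,-50),(2,-76)],
  [(6,6),(-2,-2),(2,6),(0,-2),(-4,-4),(2,-2),(-2,-4),(-8,-2),(2,-4),(0,-6)],
  [(-112,32),(42,6),(-86,-6),(34,2),(62,-16),(8,20),(58,-4),(62,-54),(54,32),(94,22)],
  [(78,-28),(-30,-2),(62,0),(-24,0),(-44,14),(-8,-14),(-44,6),(-40,42),(-42,-20),(-70,-12)],
  [(122,6),(-34,-18),(74,32),(-30,-12),(-68,-6),(4,-20),(-58,-16),(-90,30),(-30,-46),(-72,-50)],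
  [(-122,60),(52,-2),(-106,10),(42,-4),(68,-32),(18,22),(70,-16),(54,-76),(78,28),(120,8)],
  [(234,-15),(-70,-27),(154,43),(-62,-17),(-128,4),(0,-39),(-114,-16),(-158,76),(-76,-80),(-156,-80)],
  [(106,42),(-18,-26),(48,50),(-20,-20),(-58,-24),(16,-16),(-44,-30),(-98,0),(0,-50),(-34,-66)]]

/-- the words of `u₁, u₂, a` in the letters -/
def UL (i : ℕ) : List ℕ := [[0, 4, 1], [5, 7], [1, 3]].getD i []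

/-- the matrices of `u₁, u₂, a` -/
def Mt (i : ℕ) : List (List Zs) := [U1, U2, Aa].getD i []

/-- the permutation of the eleven indices -/
def pi11 (i : ℕ) : List ℕ := (List.range 11).map fun j => ix (act ((UL i).flatMap H6.M11.W) (pc j))

/-- check of the action on the vectors of triples -/
def chk3 (M : List (List Zs)) (p : List ℕ) : Bool :=
  (List.range 11).all fun i => (List.range 11).all fun j => (List.range 11).all fun k =>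
    !decide (i < j) || !decide (j < k) || eqv 0 10 (mv M (om i j k)) (om (p.getD i 0) (p.getD j 0) (p.getD k 0))

/-- the permutations -/
def pp (i : ℕ) : List ℕ := [[0,7,3,10,8,6,5,9,2,4,1], [0,4,1,9,2,3,6,10,7,5,8], [3,1,2,0,9,8,10,7,5,4,6]].getD i []

theorem pp_eq : ∀ i < 3, pi11 i = pp i := by decide +kernel

theorem chk_pp : ∀ i < 3, chk3 (Mt i) (pp i) = true := by decide +kernel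

end Cfsg.Agent.H840.M11
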