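import Cfsg.Agent.H840.M11.Dat
import Cfsg.Agent.S2060

/-!
# `M11` : generators, double cosets of the point stabiliser
-/

set_option autoImplicit false
set_option maxRecDepth 100000

namespace Cfsg.Agent.H840.M11

open Cfsg Cfsg.Agent.CoThreeStd.MTwelve Cfsg.Agent.H6.M11

/-- equality of two elements -/
theorem ev_eq {w w' : List ℕ} (h : eqW (w.flatMap W) (w'.flatMap W) = true) : ev v11 w = ev v11 w' := by
  apply Subgroup.inclusion_injective M11_le
  rw [map_ev, map_ev]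
  change ev vH w = ev vH w'
  rw [ev_vH, ev_vH]
  exact wd_eq h

/-- the generators -/
def gu (i : ℕ) : Spor.M11 := ev v11 (UL i)

/-- words in the generators -/
theorem ev_gu (w : List ℕ) : ev gu w = ev v11 (w.flatMap UL) := by
  induction w with
  | nil => rfl
  | cons i w ih => rw [ev_cons, ih, List.flatMap_cons, ev_append]; rfl

/-- words of the transversal -/
def cw (j : ℕ) : List ℕ := [
  [],
  [0, 0, 2],
  [0, 1, 0, 2],
  [2],
  [0, 1, 2],
  [1, 1, 2],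
  [0, 1, 1, 2],
  [0, 0, 0, 2],
  [1, 0, 2],
  [1, 2],
  [0, 2]].getD j []
/-- table of the first generator -/
def r5 (j : ℕ) : ℕ × List ℕ := [
  (8, [1, 1, 0, 1, 1, 0, 0, 1, 1, 0]),
  (4, [0, 0, 0, 0, 0, 1, 0, 1, 0, 0, 0]),
  (10, [1, 0, 1, 1, 0, 1, 1, 0, 0, 1]),
  (6, [0, 0, 1, 0, 1, 0, 0, 0]),
  (2, [0, 1, 0, 0, 0, 1, 1, 0, 0, 1]),
  (7, [1, 0, 0, 0, 0, 0, 1, 0, 0, 0]),
  (9, [1, 0, 1, 0, 1, 0, 0, 0, 1, 1, 0]),
  (1, [1, 0, 1, 0, 0, 0]),
  (3, [1, 1, 0, 0, 1, 0, 1, 0, 0, 1, 1]),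
  (5, [0, 1, 1, 0, 1]),
  (0, [1, 0, 1, 1, 0, 0, 1, 1, 0, 1])].getD j (0, [])
/-- table of the second generator -/
def r8 (j : ℕ) : ℕ × List ℕ := [
  (6, [0, 0, 0, 1, 0, 1, 0, 0, 0, 1, 0]),
  (1, [1, 1, 0, 0, 1, 0, 1, 0, 0, 1, 1, 0]),
  (7, [0, 1, 1, 0, 1, 1, 0, 0, 0]),
  (10, [1, 1, 0, 1, 1, 0, 0, 1, 1, 0]),
  (9, [1, 0, 1, 1, 0, 0, 0, 1, 0, 1, 0]),
  (5, [1, 1, 0, 1, 1, 0, 0, 0, 1]),
  (0, [1, 0, 1, 0, 1, 0, 0, 0, 1, 1, 0]),
  (2, [0, 1, 0, 1, 0, 0, 0, 0, 0, 1]),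
  (8, [0, 0, 0, 1, 1, 0]),
  (4, [0, 1, 0, 1, 0, 0, 0, 1, 1, 0, 1]),
  (3, [0, 1, 1, 0, 0, 1, 1, 0, 1])].getD j (0, [])

theorem cw_facts : cw 0 = [] ∧ ∀ j < 11, j ≠ 0 → (cw j).getLast? = some 2 ∧ (cw j).dropLast.all (fun i => decide (i < 2)) = true := by
  decide

theorem r5_facts : ∀ j < 11, (r5 j).1 < 11 ∧ (r5 j).2.all (fun i => decide (i < 2)) = true ∧
    eqW ((5 :: (cw j).flatMap UL).flatMap W) (((cw (r5 j).1 ++ (r5 j).2).flatMap UL).flatMap W) = true := by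
  decide +kernel

theorem r8_facts : ∀ j < 11, (r8 j).1 < 11 ∧ (r8 j).2.all (fun i => decide (i < 2)) = true ∧
    eqW ((8 :: (cw j).flatMap UL).flatMap W) (((cw (r8 j).1 ++ (r8 j).2).flatMap UL).flatMap W) = true := by
  decide +kernel

/-- the point stabiliser -/
def M0 : Subgroup Spor.M11 := Subgroup.closure {gu 0, gu 1}

theorem ev_mem_M0 {w : List ℕ} (h : w.all (fun i => decide (i < 2)) = true) : ev gu w ∈ M0 := by
  induction w with
  | nil => exact M0.one_mem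
  | cons i w ih =>
    rw [List.all_cons, Bool.and_eq_true] at h
    rw [ev_cons]
    refine M0.mul_mem ?_ (ih h.2)
    have hi : i < 2 := of_decide_eq_true h.1
    interval_cases i
    · exact Subgroup.subset_closure (Or.inl rfl)
    · exact Subgroup.subset_closure (Or.inr rfl)

/-- left cosets -/
theorem exists_cos (p : Spor.M11) : ∃ j < 11, ∃ r ∈ M0, p = ev gu (cw j) * r := by
  have hfin : Finite Spor.M11 := inferInstance
  -- multiplication by the generators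
  have step5 : ∀ x : Spor.M11, (∃ j < 11, ∃ r ∈ M0, x = ev gu (cw j) * r) →
      ∃ j < 11, ∃ r ∈ M0, v11 5 * x = ev gu (cw j) * r := by
    rintro x ⟨j, hj, r, hr, rfl⟩
    obtain ⟨h1, h2, h3⟩ := r5_facts j hj
    refine ⟨_, h1, ev gu (r5 j).2 * r, M0.mul_mem (ev_mem_M0 h2) hr, ?_⟩
    have h4 := ev_eq h3
    rw [ev_cons, ← ev_gu, ← ev_gu, ev_append] at h4
    rw [← mul_assoc, h4, mul_assoc]
  have step8 : ∀ x : Spor.M11, (∃ j < 11, ∃ r ∈ M0, x = ev gu (cw j) * r) →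
      ∃ j < 11, ∃ r ∈ M0, v11 8 * x = ev gu (cw j) * r := by
    rintro x ⟨j, hj, r, hr, rfl⟩
    obtain ⟨h1, h2, h3⟩ := r8_facts j hj
    refine ⟨_, h1, ev gu (r8 j).2 * r, M0.mul_mem (ev_mem_M0 h2) hr, ?_⟩
    have h4 := ev_eq h3
    rw [ev_cons, ← ev_gu, ← ev_gu, ev_append] at h4
    rw [← mul_assoc, h4, mul_assoc]
  have key : ∀ y : Spor.M11, ∀ x : Spor.M11, (∃ j < 11, ∃ r ∈ M0, x = ev gu (cw j) * r) →
      ∃ j < 11, ∃ r ∈ M0, y * x = ev gu (cw j) * r := by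
    intro y
    have hy : y ∈ Subgroup.closure ({v11 5, v11 8} : Set Spor.M11) := by rw [closure_11]; trivial
    induction hy using Subgroup.closure_induction with
    | mem y hy =>
      rcases hy with rfl | hy
      · exact step5
      · rw [Set.mem_singleton_iff.1 hy]; exact step8
    | one => intro x hx; rwa [one_mul]
    | mul a b _ _ ha hb => intro x hx; rw [mul_assoc]; exact ha _ (hb _ hx)
    | inv a _ ha =>
      have h1 : a⁻¹ = a ^ (orderOf a - 1) := by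
        rw [inv_eq_iff_mul_eq_one, ← pow_succ', Nat.sub_add_cancel (orderOf_pos a), pow_orderOf_eq_one]
      rw [h1]
      generalize orderOf a - 1 = m
      induction m with
      | zero => intro x hx; rwa [pow_zero, one_mul]
      | succ m ih => intro x hx; rw [pow_succ, mul_assoc]; exact ih _ (ha _ hx)
  have := key p 1 ⟨0, by norm_num, 1, M0.one_mem, by rw [cw_facts.1, ev_nil, one_mul]⟩
  rwa [mul_one] at this

/-- double cosets -/
theorem dec11 (p : Spor.M11) : p ∈ M0 ∨ ∃ b ∈ M0, ∃ c ∈ M0, p = b * gu 2 * c := by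
  obtain ⟨j, hj, r, hr, rfl⟩ := exists_cos p
  by_cases h0 : j = 0
  · left
    rw [h0, cw_facts.1, ev_nil, one_mul]
    exact hr
  · right
    obtain ⟨h1, h2⟩ := cw_facts.2 j hj h0
    have h3 : cw j = (cw j).dropLast ++ [2] := by
      rw [List.dropLast_append_getLast?]
      exact h1
    refine ⟨ev gu (cw j).dropLast, ev_mem_M0 h2, r, hr, ?_⟩
    conv_lhs => rw [h3]
    rw [ev_append, ev_cons, ev_nil, mul_one]

theorem gen_gu : Subgroup.closure ({gu 0, gu 1, gu 2} : Set Spor.M11) = ⊤ := by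
  rw [eq_top_iff]
  intro p _
  have hle : M0 ≤ Subgroup.closure ({gu 0, gu 1, gu 2} : Set Spor.M11) := by
    unfold M0
    apply Subgroup.closure_mono
    rintro x (rfl | hx)
    · exact Or.inl rfl
    · exact Or.inr (Or.inl hx)
  have h2 : gu 2 ∈ Subgroup.closure ({gu 0, gu 1, gu 2} : Set Spor.M11) := Subgroup.subset_closure (Or.inr (Or.inr rfl))
  rcases dec11 p with h | ⟨b, hb, c, hc, rfl⟩
  · exact hle h
  · exact Subgroup.mul_mem _ (Subgroup.mul_mem _ (hle hb) h2) (hle hc)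

/-- every automorphism is inner -/
theorem inner (φ : MulAut Spor.M11) : ∃ p : Spor.M11, ∀ x, φ x = p * x * p⁻¹ := by
  have h := (Nat.card_eq_one_iff_unique.1 S2060.result).1
  have h1 : (QuotientGroup.mk φ : Out Spor.M11) = QuotientGroup.mk 1 := Subsingleton.elim _ _
  have h2 : φ ∈ Inn Spor.M11 := by
    have h3 := QuotientGroup.eq.1 h1
    rw [mul_one] at h3
    exact (Subgroup.inv_mem_iff _).1 h3
  obtain ⟨p, hp⟩ := h2
  exact ⟨p, fun x => by rw [← hp]; rfl⟩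

end Cfsg.Agent.H840.M11
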