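import Cfsg.Agent.H840.M11.TrZ
import Cfsg.Agent.H906.Trace

/-!
# The invariant form of the ten-dimensional representation of `M11`
-/

set_option autoImplicit false
set_option linter.unusedSectionVars false
set_option linter.unusedVariables false
set_option maxRecDepth 100000

namespace Cfsg.Agent.H840.M11

open Cfsg Cfsg.Geo Cfsg.Agent.CoThreeStd.MTwelve Cfsg.Agent.H6.M11
open scoped Matrix

/-- transposed list -/
def trl (M : List (List Zs)) : List (List Zs) := (List.range 10).map fun i => (List.range 10).map fun j =>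
  (M.getD j []).getD i (0, 0)

/-- conjugate list -/
def cjl (M : List (List Zs)) : List (List Zs) := (List.range 10).map fun i => (List.range 10).map fun j =>
  zc ((M.getD i []).getD j (0, 0))

/-- check of the invariance of the form -/
def chf (M : List (List Zs)) : Bool := (List.range 10).all fun j =>
  eqv 0 10 (app [trl M, Ph, cjl M] (bv 10 j)) (app [Ph] (bv 10 j))

theorem chf_spec : chf U1 = true ∧ chf U2 = true ∧ chf Aa = true ∧ chf Gg = true := by decide +kernel

theorem inv_spec : ∀ j < 10, eqv 0 10 (app [Ph, Ps] (bv 10 j)) (app [] (bv 10 j)) = true := by decide +kernel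

theorem ok_range (f : ℕ → ℕ → Zs) : okm 10 ((List.range 10).map fun i => (List.range 10).map fun j => f i j) = true := by
  rw [okm, List.all_eq_true]
  intro r hr
  obtain ⟨i, -, rfl⟩ := List.mem_map.1 hr
  rw [List.length_map, List.length_range]
  rfl

section

variable {F : Type*} [Field F] {s : F}

theorem tm_trl (M : List (List Zs)) : tm s 10 (trl M) = (tm s 10 M)ᵀ := by
  ext i j
  change zf s (((trl M).getD i []).getD j (0, 0)) = zf s ((M.getD j []).getD i (0, 0))
  unfold trl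
  rw [getD_map_range _ _ _ _ i.2, getD_map_range _ _ _ _ j.2]

theorem tm_cjl (M : List (List Zs)) : tm s 10 (cjl M) = tm (-s) 10 M := by
  ext i j
  change zf s (((cjl M).getD i []).getD j (0, 0)) = zf (-s) ((M.getD i []).getD j (0, 0))
  unfold cjl
  rw [getD_map_range _ _ _ _ i.2, getD_map_range _ _ _ _ j.2, zf_conj]

theorem tm_map {σ : F ≃+* F} (hσ : σ s = -s) (M : List (List Zs)) : (tm s 10 M).map σ = tm (-s) 10 M := by
  ext i j
  change σ (zf s ((M.getD i []).getD j (0, 0))) = zf (-s) ((M.getD i []).getD j (0, 0))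
  unfold zf
  rw [map_add, map_mul, hσ, map_intCast, map_intCast]

theorem form_of_chf (hs : s * s = -2) {σ : F ≃+* F} (hσ : σ s = -s) {M : List (List Zs)} (h : chf M = true) :
    (tm s 10 M)ᵀ * tm s 10 Ph * (tm s 10 M).map σ = tm s 10 Ph := by
  rw [tm_map hσ, ← tm_cjl, ← tm_trl]
  have h1 : ∀ M' ∈ [trl M, Ph, cjl M], okm 10 M' = true := by
    intro M' hM'
    simp only [List.mem_cons, List.not_mem_nil, or_false] at hM'
    rcases hM' with rfl | rfl | rfl
    · exact ok_range _
    · exact OT_ok.2.2.2.2.2.1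
    · exact ok_range _
  have h2 := prod_eq hs (z0 (F := F)) h1 (Ns := [Ph]) (by
    intro M' hM'
    rw [List.mem_singleton.1 hM']
    exact OT_ok.2.2.2.2.2.1) (fun j hj => List.all_eq_true.1 h j (List.mem_range.2 hj))
  simpa [Matrix.mul_assoc] using h2

theorem unit_Ph (hs : s * s = -2) : IsUnit (tm s 10 Ph) := by
  have h := prod_eq hs (z0 (F := F)) (Ms := [Ph, Ps]) (Ns := []) (by
    intro M' hM'
    simp only [List.mem_cons, List.not_mem_nil, or_false] at hM'
    rcases hM' with rfl | rfl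
    · exact OT_ok.2.2.2.2.2.1
    · exact OT_ok.2.2.2.2.2.2) (by simp) inv_spec
  have h1 : tm s 10 Ph * tm s 10 Ps = 1 := by simpa using h
  exact IsUnit.of_mul_eq_one _ h1

theorem form_rho (hs : s * s = -2) {ρ : Spor.M11 →* Matrix (Fin 10) (Fin 10) F}
    (hρ : ∀ i < 3, ρ (gu i) = tm s 10 (Mt i)) {σ : F ≃+* F} (hσ : σ s = -s) (x : Spor.M11) :
    (ρ x)ᵀ * tm s 10 Ph * (ρ x).map σ = tm s 10 Ph := by
  have hx : x ∈ Subgroup.closure ({gu 0, gu 1, gu 2} : Set Spor.M11) := by rw [gen_gu]; trivial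
  induction hx using Subgroup.closure_induction with
  | mem x hx =>
    rcases hx with rfl | rfl | hx
    · rw [hρ 0 (by norm_num)]
      exact form_of_chf hs hσ chf_spec.1
    · rw [hρ 1 (by norm_num)]
      exact form_of_chf hs hσ chf_spec.2.1
    · rw [Set.mem_singleton_iff.1 hx, hρ 2 (by norm_num)]
      exact form_of_chf hs hσ chf_spec.2.2.1
  | one =>
    rw [map_one, Matrix.transpose_one, Matrix.one_mul, Matrix.map_one _ (map_zero σ) (map_one σ), Matrix.mul_one]
  | mul a b _ _ ha hb =>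
    rw [map_mul, Matrix.transpose_mul, Matrix.map_mul]
    calc (ρ b)ᵀ * (ρ a)ᵀ * tm s 10 Ph * ((ρ a).map σ * (ρ b).map σ)
        = (ρ b)ᵀ * ((ρ a)ᵀ * tm s 10 Ph * (ρ a).map σ) * (ρ b).map σ := by simp only [Matrix.mul_assoc]
      _ = _ := by rw [ha, hb]
  | inv a _ ha =>
    have h1 : ρ a * ρ a⁻¹ = 1 := by rw [← map_mul, mul_inv_cancel, map_one]
    have h2 : (ρ a⁻¹)ᵀ * (ρ a)ᵀ = 1 := by rw [← Matrix.transpose_mul, h1, Matrix.transpose_one]
    have h3 : (ρ a).map σ * (ρ a⁻¹).map σ = 1 := by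
      rw [← Matrix.map_mul, h1, Matrix.map_one _ (map_zero σ) (map_one σ)]
    calc (ρ a⁻¹)ᵀ * tm s 10 Ph * (ρ a⁻¹).map σ
        = (ρ a⁻¹)ᵀ * ((ρ a)ᵀ * tm s 10 Ph * (ρ a).map σ) * (ρ a⁻¹).map σ := by rw [ha]
      _ = ((ρ a⁻¹)ᵀ * (ρ a)ᵀ) * tm s 10 Ph * ((ρ a).map σ * (ρ a⁻¹).map σ) := by simp only [Matrix.mul_assoc]
      _ = _ := by rw [h2, h3, Matrix.one_mul, Matrix.mul_one]

end

end Cfsg.Agent.H840.M11
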