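import Cfsg.Agent.H840.M11.Zs

/-!
# Homomorphisms into matrix groups from generators
-/

set_option autoImplicit false

namespace Cfsg.Agent.H840.M11

open scoped Matrix

/-- A homomorphism from the action of generators on a spanning set. -/
theorem exists_hom {G : Type*} [Group G] [Finite G] {Ω : Type*} [MulAction G Ω] {n : ℕ} {F : Type*} [Field F]
    (ω : Ω → Fin n → F) (S : Set Ω) (X : Set G) (hX : Subgroup.closure X = ⊤) (A : G → Matrix (Fin n) (Fin n) F)
    (h : ∀ x ∈ X, ∀ o ∈ S, x • o ∈ S ∧ A x *ᵥ ω o = ω (x • o)) (hs : Submodule.span F (ω '' S) = ⊤) :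
    ∃ ρ : G →* Matrix (Fin n) (Fin n) F, (∀ g, ∀ o ∈ S, g • o ∈ S ∧ ρ g *ᵥ ω o = ω (g • o)) ∧ ∀ x ∈ X, ρ x = A x := by
  have uniq : ∀ (g : G) (B C : Matrix (Fin n) (Fin n) F), (∀ o ∈ S, B *ᵥ ω o = ω (g • o)) →
      (∀ o ∈ S, C *ᵥ ω o = ω (g • o)) → B = C := by
    intro g B C hB hC
    have h1 : ∀ v : Fin n → F, B *ᵥ v = C *ᵥ v := by
      intro v
      have hv : v ∈ Submodule.span F (ω '' S) := by rw [hs]; trivial
      induction hv using Submodule.span_induction with
      | mem v hv => obtain ⟨o, ho, rfl⟩ := hv; rw [hB o ho, hC o ho]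
      | zero => rw [Matrix.mulVec_zero, Matrix.mulVec_zero]
      | add x y _ _ hx hy => rw [Matrix.mulVec_add, Matrix.mulVec_add, hx, hy]
      | smul c x _ hx => rw [Matrix.mulVec_smul, Matrix.mulVec_smul, hx]
    exact Matrix.ext_of_mulVec_single fun i => h1 _
  have ex : ∀ g : G, ∃ B : Matrix (Fin n) (Fin n) F, ∀ o ∈ S, g • o ∈ S ∧ B *ᵥ ω o = ω (g • o) := by
    have mul : ∀ a b : G, (∃ B : Matrix (Fin n) (Fin n) F, ∀ o ∈ S, a • o ∈ S ∧ B *ᵥ ω o = ω (a • o)) →
        (∃ B : Matrix (Fin n) (Fin n) F, ∀ o ∈ S, b • o ∈ S ∧ B *ᵥ ω o = ω (b • o)) →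
        ∃ B : Matrix (Fin n) (Fin n) F, ∀ o ∈ S, (a * b) • o ∈ S ∧ B *ᵥ ω o = ω ((a * b) • o) := by
      rintro a b ⟨B, hB⟩ ⟨C, hC⟩
      refine ⟨B * C, fun o ho => ?_⟩
      rw [mul_smul, ← Matrix.mulVec_mulVec, (hC o ho).2]
      exact hB _ (hC o ho).1
    have one : ∃ B : Matrix (Fin n) (Fin n) F, ∀ o ∈ S, (1 : G) • o ∈ S ∧ B *ᵥ ω o = ω ((1 : G) • o) :=
      ⟨1, fun o ho => by rw [one_smul, Matrix.one_mulVec]; exact ⟨ho, rfl⟩⟩
    intro g
    have hg : g ∈ Subgroup.closure X := by rw [hX]; trivial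
    induction hg using Subgroup.closure_induction with
    | mem x hx => exact ⟨A x, h x hx⟩
    | one => exact one
    | mul a b _ _ ha hb => exact mul a b ha hb
    | inv a _ ha =>
      have h1 : a⁻¹ = a ^ (orderOf a - 1) := by
        rw [inv_eq_iff_mul_eq_one, ← pow_succ', Nat.sub_add_cancel (orderOf_pos a), pow_orderOf_eq_one]
      rw [h1]
      generalize orderOf a - 1 = m
      induction m with
      | zero => rw [pow_zero]; exact one
      | succ m ih => rw [pow_succ]; exact mul _ _ ih ha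
  choose R hR using ex
  refine ⟨⟨⟨R, ?_⟩, ?_⟩, hR, ?_⟩
  · apply uniq 1 _ _ (fun o ho => (hR 1 o ho).2)
    intro o _
    rw [one_smul, Matrix.one_mulVec]
  · intro a b
    apply uniq (a * b) _ _ (fun o ho => (hR (a * b) o ho).2)
    intro o ho
    rw [mul_smul, ← Matrix.mulVec_mulVec, (hR b o ho).2]
    exact (hR a _ (hR b o ho).1).2
  · intro x hx
    exact uniq x _ _ (fun o ho => (hR x o ho).2) (fun o ho => (h x hx o ho).2)

/-- Homomorphisms with the same traces : the second one spans if the first one does. -/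
theorem span_of_trace {G : Type*} [Group G] {ι : Type} [Fintype ι] [DecidableEq ι] {F : Type*} [Field F]
    (ρ₁ ρ₂ : G →* Matrix ι ι F) (h₁ : Submodule.span F (Set.range ρ₁) = ⊤)
    (htr : ∀ g, (ρ₁ g).trace = (ρ₂ g).trace) : Submodule.span F (Set.range ρ₂) = ⊤ := by
  classical
  obtain ⟨b, hb, hsp, hli⟩ := exists_linearIndependent F (Set.range ρ₁)
  rw [h₁] at hsp
  choose f hf using fun x : b => hb x.2
  have hli2 : LinearIndependent F (fun x : b => ρ₂ (f x)) := by
    rw [linearIndependent_iff'] at hli ⊢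
    intro t c hc
    apply hli t c
    -- traces against everything vanish
    have key : ∀ g : G, ((∑ i ∈ t, c i • (i : Matrix ι ι F)) * ρ₁ g).trace = 0 := by
      intro g
      have h1 : ((∑ i ∈ t, c i • ρ₂ (f i)) * ρ₂ g).trace = 0 := by rw [hc, zero_mul, Matrix.trace_zero]
      rw [Finset.sum_mul, Matrix.trace_sum] at h1 ⊢
      rw [← h1]
      refine Finset.sum_congr rfl fun i _ => ?_
      rw [smul_mul_assoc, smul_mul_assoc, Matrix.trace_smul, Matrix.trace_smul, ← hf i, ← map_mul, ← map_mul, htr]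
    have h2 : ∀ Y : Matrix ι ι F, ((∑ i ∈ t, c i • (i : Matrix ι ι F)) * Y).trace = 0 := by
      intro Y
      have hY : Y ∈ Submodule.span F (Set.range ρ₁) := by rw [h₁]; trivial
      induction hY using Submodule.span_induction with
      | mem s hs => obtain ⟨g, rfl⟩ := hs; exact key g
      | zero => simp
      | add a b _ _ ha hb => rw [mul_add, Matrix.trace_add, ha, hb, add_zero]
      | smul c a _ ha => rw [mul_smul_comm, Matrix.trace_smul, ha, smul_zero]
    exact Matrix.ext_iff_trace_mul_right.2 (fun Y => by rw [h2 Y, zero_mul, Matrix.trace_zero])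
  have hfin : Finite b := hli.finite
  have := Fintype.ofFinite b
  have hbas : LinearIndependent F (fun x : b => (x : Matrix ι ι F)) := hli
  have hcard : Fintype.card b = Module.finrank F (Matrix ι ι F) := by
    have h3 := finrank_span_eq_card (R := F) hbas
    rw [Subtype.range_coe, hsp, finrank_top] at h3
    exact h3.symm
  have h4 := hli2.span_eq_top_of_card_eq_finrank' hcard
  rw [eq_top_iff, ← h4]
  apply Submodule.span_mono
  rintro _ ⟨x, rfl⟩
  exact ⟨f x, rfl⟩

end Cfsg.Agent.H840.M11
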