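import Cfsg.Agent.H840.M11.Kil
import Cfsg.Agent.H840.M11.Chr5

/-!
# The trace hypothesis in characteristic not 2, 3
-/

set_option autoImplicit false
set_option linter.constructorNameAsVariable false
set_option linter.unusedSectionVars false
set_option linter.unusedVariables false

namespace Cfsg.Agent.H840.M11

open Cfsg Cfsg.Geo H915.LD Cfsg.Agent.CoThreeStd.MTwelve Cfsg.Agent.H6.M11
open scoped Matrix MatrixGroups

universe u

variable {F : Type u} [Field F] [Finite F] {P : Subgroup (GL (Fin 10) F)}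

/-- the representation of `M11` over an extension -/
noncomputable def repM (e : P ≃* Spor.M11) (k : Type*) [Field k] [Algebra F k] : Spor.M11 →* Module.End k (Fin 10 → k) :=
  (rep P k).comp e.symm.toMonoidHom

theorem tw_repM (e : P ≃* Spor.M11) (k : Type*) [Field k] [Algebra F k] (w : List ℕ) :
    tw v11 (repM e k) w = algebraMap F k (tr ((e.symm (ev v11 w) : P) : GL (Fin 10) F)) := trace_rep k _

/-- real traces of elements of order eight and eleven give self-duality -/
theorem sd_of_real (e : P ≃* Spor.M11)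
    (h8 : tr ((e.symm (ev v11 [2, 2, 2, 2, 2, 2, 2]) : P) : GL (Fin 10) F) = tr ((e.symm (ev v11 [2]) : P) : GL (Fin 10) F))
    (h11 : tr ((e.symm (ev v11 [5, 5, 5, 5, 5, 5, 5, 5, 5, 5]) : P) : GL (Fin 10) F) =
      tr ((e.symm (ev v11 [5]) : P) : GL (Fin 10) F)) : SD P := by
  have hP : Spor.IsoM11 P := ⟨e⟩
  have ho : ∀ x, orderOf (e.symm x) = orderOf x := fun x => MulEquiv.orderOf_eq _ _
  let χ : P → F := fun g => tr (g : GL (Fin 10) F)
  have hχ : ∀ a b, IsConj a b → χ a = χ b := fun a b hab => tr_isConj hab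
  have hy : (ev v11 [2])⁻¹ = ev v11 [2, 2, 2, 2, 2, 2, 2] := by
    rw [inv_eq_iff_mul_eq_one, ← ev_append, ← ev_nil v11]
    exact sat_11.base (by decide +kernel)
  have hx : (ev v11 [5])⁻¹ = ev v11 [5, 5, 5, 5, 5, 5, 5, 5, 5, 5] := by
    rw [inv_eq_iff_mul_eq_one, ← ev_append, ← ev_nil v11]
    exact sat_11.base (by decide +kernel)
  intro g hg
  refine eq_of_order hP (x6 := e.symm (ev v11 [3, 0])) (x8 := e.symm (ev v11 [2])) (x5 := e.symm (ev v11 [6]))
    (x11 := e.symm (ev v11 [5])) ((ho _).trans orders_11.1) ((ho _).trans orders_11.2.1)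
    ((ho _).trans orders_11.2.2.1) ((ho _).trans orders_11.2.2.2) χ hχ ?_ ?_ (a := ⟨g, hg⟩⁻¹) (b := ⟨g, hg⟩)
    (orderOf_inv _)
  · rw [← map_inv, hy]; exact h8
  · rw [← map_inv, hx]; exact h11

theorem htr_ne_three (hC : Core P) (p : ℕ) [hp : Fact p.Prime] [CharP F p] (hp3 : p ≠ 3) (h2 : (2 : F) ≠ 0)
    (e : P ≃* Spor.M11) (hSD : ¬ SD P) : ∃ s : F, s * s = -2 ∧ HTr e s := by
  let v : ℕ → P := fun i => e.symm (v11 i)
  have hv : Sat v := sat_11.map e.symm.toMonoidHom
  have hv0 : v 0 ≠ 1 := by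
    intro h0
    apply v11_zero_ne
    have := congrArg e h0
    rwa [MulEquiv.apply_symm_apply, map_one] at this
  have hev : ∀ w, ev v w = e.symm (ev v11 w) := fun w => (map_ev v11 e.symm.toMonoidHom w).symm
  have hck : CharP (AlgebraicClosure F) p := charP_of_injective_algebraMap (algebraMap F _).injective p
  obtain ⟨ω, hω⟩ := exists_root (AlgebraicClosure F) 3 (cast_ne _ hp.out Nat.prime_three hp3)
  have h2' : (2 : AlgebraicClosure F) ≠ 0 := by
    intro h
    apply h2
    apply (algebraMap F (AlgebraicClosure F)).injective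
    rw [map_ofNat, map_zero, h]
  have hx : (ev v11 [5])⁻¹ = ev v11 [5, 5, 5, 5, 5, 5, 5, 5, 5, 5] := by
    rw [inv_eq_iff_mul_eq_one, ← ev_append, ← ev_nil v11]
    exact sat_11.base (by decide +kernel)
  have h11 : tr ((e.symm (ev v11 [5, 5, 5, 5, 5, 5, 5, 5, 5, 5]) : P) : GL (Fin 10) F) =
      tr ((e.symm (ev v11 [5]) : P) : GL (Fin 10) F) := by
    have h := real_eleven p hp3 hv hv0 (by rw [Fintype.card_fin]; norm_num)
    rw [hev, ← map_inv, hx] at h
    exact h
  obtain ⟨h3, h4⟩ := traces (R := repM e (AlgebraicClosure F)) hω h2' (by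
    intro h
    have h1 := rep_eq_one _ h
    rw [ev_cons, ev_nil, mul_one] at h1
    exact hv0 h1) (by rw [Module.finrank_fintype_fun_eq_card, Fintype.card_fin]) (by
    intro h
    rw [tw_repM, tw_repM] at h
    exact hSD (sd_of_real e ((algebraMap F _).injective h) h11)) (by rw [tw_repM, tw_repM, h11])
  refine ⟨tr ((e.symm (ev v11 [2]) : P) : GL (Fin 10) F), ?_, ?_⟩
  · apply (algebraMap F (AlgebraicClosure F)).injective
    rw [map_mul, ← tw_repM, h3, map_neg, map_ofNat]
  · intro i hi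
    apply (algebraMap F (AlgebraicClosure F)).injective
    rw [← tw_repM, h4 i hi, tw_repM]
    unfold zf
    rw [map_add, map_mul, map_intCast, map_intCast]

end Cfsg.Agent.H840.M11
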