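import Mathlib

/-!
# A group generated by `M11` and an involution : abstract part
-/

set_option autoImplicit false

namespace Cfsg.Agent.H840.M11

section

variable {Γ : Type*} [Group Γ] {P : Subgroup Γ} {u1 u2 a g : Γ}

theorem conj_mem (gg : g * g = 1) (g1 : g * u1 * (g * u1) = 1) (g2 : g * u2 = u2 * g) {r : Γ}
    (hr : r ∈ Subgroup.closure ({u1, u2} : Set Γ)) : g * r * g ∈ Subgroup.closure ({u1, u2} : Set Γ) := by
  induction hr using Subgroup.closure_induction with
  | mem x hx =>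
    rcases hx with rfl | hx
    · have h1 : g * x * g = x⁻¹ := by
        rw [eq_inv_iff_mul_eq_one]
        rw [← g1]; group
      rw [h1]
      exact Subgroup.inv_mem _ (Subgroup.subset_closure (Or.inl rfl))
    · rw [Set.mem_singleton_iff] at hx
      subst hx
      rw [g2, mul_assoc, gg, mul_one]
      exact Subgroup.subset_closure (Or.inr rfl)
  | one => rw [mul_one, gg]; exact Subgroup.one_mem _
  | mul x y _ _ hx hy =>
    have h1 : g * (x * y) * g = g * x * g * (g * y * g) := by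
      calc g * (x * y) * g = g * x * 1 * y * g := by group
        _ = g * x * (g * g) * y * g := by rw [gg]
        _ = _ := by group
    rw [h1]
    exact Subgroup.mul_mem _ hx hy
  | inv x _ hx =>
    have h1 : g⁻¹ = g := inv_eq_of_mul_eq_one_left gg
    have h2 : g * x⁻¹ * g = (g * x * g)⁻¹ := by
      rw [mul_inv_rev, mul_inv_rev, h1, mul_assoc]
    rw [h2]
    exact Subgroup.inv_mem _ hx

/-- The double coset group. -/
theorem exists_Q (m1 : u1 ∈ P) (m2 : u2 ∈ P) (ma : a ∈ P) (gg : g * g = 1) (g1 : g * u1 * (g * u1) = 1)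
    (g2 : g * u2 = u2 * g) (ga : g * a * g = a * g * a)
    (dec : ∀ p ∈ P, p ∈ Subgroup.closure ({u1, u2} : Set Γ) ∨ ∃ b ∈ Subgroup.closure ({u1, u2} : Set Γ),
      ∃ c ∈ Subgroup.closure ({u1, u2} : Set Γ), p = b * a * c) :
    ∃ Q : Subgroup Γ, P ≤ Q ∧ g ∈ Q ∧ ∀ x ∈ Q, x ∈ P ∨ ∃ p ∈ P, ∃ q ∈ P, x = p * g * q := by
  have hle : Subgroup.closure ({u1, u2} : Set Γ) ≤ P := by
    rw [Subgroup.closure_le]
    rintro x (rfl | hx)
    · exact m1
    · rw [Set.mem_singleton_iff.1 hx]; exact m2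
  have hg' : g⁻¹ = g := inv_eq_of_mul_eq_one_left gg
  have key : ∀ r ∈ P, g * r * g ∈ P ∨ ∃ p ∈ P, ∃ q ∈ P, g * r * g = p * g * q := by
    intro r hr
    rcases dec r hr with h | ⟨b, hb, c, hc, rfl⟩
    · exact Or.inl (hle (conj_mem gg g1 g2 h))
    · right
      refine ⟨g * b * g * a, P.mul_mem (hle (conj_mem gg g1 g2 hb)) ma, a * (g * c * g),
        P.mul_mem ma (hle (conj_mem gg g1 g2 hc)), ?_⟩
      calc g * (b * a * c) * g = g * b * 1 * a * 1 * c * g := by group
        _ = g * b * (g * g) * a * (g * g) * c * g := by rw [gg]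
        _ = g * b * g * (g * a * g) * (g * c * g) := by group
        _ = g * b * g * (a * g * a) * (g * c * g) := by rw [ga]
        _ = _ := by group
  refine ⟨{ carrier := {x | x ∈ P ∨ ∃ p ∈ P, ∃ q ∈ P, x = p * g * q}, one_mem' := Or.inl P.one_mem,
            mul_mem' := ?_, inv_mem' := ?_ }, fun x hx => Or.inl hx,
            Or.inr ⟨1, P.one_mem, 1, P.one_mem, by group⟩, fun x hx => hx⟩
  · rintro x y (hx | ⟨p, hp, q, hq, rfl⟩) (hy | ⟨p', hp', q', hq', rfl⟩)
    · exact Or.inl (P.mul_mem hx hy)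
    · exact Or.inr ⟨x * p', P.mul_mem hx hp', q', hq', by group⟩
    · exact Or.inr ⟨p, hp, q * y, P.mul_mem hq hy, by group⟩
    · rcases key (q * p') (P.mul_mem hq hp') with h | ⟨r, hr, t, ht, h⟩
      · left
        have h1 : p * g * q * (p' * g * q') = p * (g * (q * p') * g) * q' := by group
        rw [h1]
        exact P.mul_mem (P.mul_mem hp h) hq'
      · right
        refine ⟨p * r, P.mul_mem hp hr, t * q', P.mul_mem ht hq', ?_⟩
        have h1 : p * g * q * (p' * g * q') = p * (g * (q * p') * g) * q' := by group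
        rw [h1, h]; group
  · rintro x (hx | ⟨p, hp, q, hq, rfl⟩)
    · exact Or.inl (P.inv_mem hx)
    · refine Or.inr ⟨q⁻¹, P.inv_mem hq, p⁻¹, P.inv_mem hp, ?_⟩
      rw [mul_inv_rev, mul_inv_rev, hg', mul_assoc]

theorem card_Q [Finite P] {Q : Subgroup Γ} (hQ : ∀ x ∈ Q, x ∈ P ∨ ∃ p ∈ P, ∃ q ∈ P, x = p * g * q) :
    Finite Q ∧ Nat.card Q ≤ Nat.card P + Nat.card P * Nat.card P := by
  classical
  have h1 : ∀ x : Q, ∃ t : P ⊕ P × P, (x : Γ) = Sum.elim (fun p : P => (p : Γ)) (fun pq : P × P => (pq.1 : Γ) * g * pq.2) t := by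
    intro x
    rcases hQ x x.2 with h | ⟨p, hp, q, hq, h⟩
    · exact ⟨Sum.inl ⟨x, h⟩, rfl⟩
    · exact ⟨Sum.inr (⟨p, hp⟩, ⟨q, hq⟩), h⟩
  choose t ht using h1
  have hinj : Function.Injective t := by
    intro x y hxy
    apply Subtype.ext
    rw [ht x, ht y, hxy]
  refine ⟨Finite.of_injective t hinj, ?_⟩
  have := Nat.card_le_card_of_injective t hinj
  rwa [Nat.card_sum, Nat.card_prod] at this

end

end Cfsg.Agent.H840.M11
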