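import Cfsg.Agent.H840.M11.Frm
import Cfsg.Agent.H840.M11.Ovm
import Cfsg.Agent.H840.L34.Kill
import Cfsg.Agent.H6.M11.Main11

/-!
# The overgroup of `M11` in degree ten
-/

set_option autoImplicit false
set_option linter.constructorNameAsVariable false
set_option linter.unusedSectionVars false
set_option linter.unusedVariables false

namespace Cfsg.Agent.H840.M11

open Cfsg Cfsg.Geo H915.LD Cfsg.Agent.CoThreeStd.MTwelve Cfsg.Agent.H6.M11
open Cfsg.Agent.H840.L34 (spf spf_inj card_X sgl_det ext_vec)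
open scoped Matrix MatrixGroups

universe u

variable {F : Type u} [Field F] [Finite F] {P : Subgroup (GL (Fin 10) F)}

/-- the representation given by an isomorphism with `M11` -/
noncomputable def rhoP (e : P ≃* Spor.M11) : Spor.M11 →* Matrix (Fin 10) (Fin 10) F :=
  ((Units.coeHom (Matrix (Fin 10) (Fin 10) F)).comp P.subtype).comp e.symm.toMonoidHom

theorem rhoP_apply (e : P ≃* Spor.M11) (x : Spor.M11) :
    rhoP e x = (((e.symm x : P) : GL (Fin 10) F) : Matrix (Fin 10) (Fin 10) F) := rfl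

theorem span_rhoP (hC : Core P) (e : P ≃* Spor.M11) : Submodule.span F (Set.range (rhoP e)) = ⊤ := by
  rw [← span_mat hC]
  congr 1
  ext X
  constructor
  · rintro ⟨x, rfl⟩
    exact ⟨e.symm x, rfl⟩
  · rintro ⟨p, rfl⟩
    exact ⟨e p, by rw [rhoP_apply, MulEquiv.symm_apply_apply]⟩

/-- the trace hypothesis -/
def HTr (e : P ≃* Spor.M11) (s : F) : Prop := ∀ i < 10, tr ((e.symm (ev v11 (rv i)) : P) : GL (Fin 10) F) = zf s (rt i)

variable {s : F}

theorem trace_eq (e : P ≃* Spor.M11) (hs : s * s = -2) (htr : HTr e s) {ρ : Spor.M11 →* Matrix (Fin 10) (Fin 10) F}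
    (hρ : ∀ i < 3, ρ (gu i) = tm s 10 (Mt i)) (x : Spor.M11) : (rhoP e x).trace = (ρ x).trace := by
  obtain ⟨i, hi, -⟩ := exists_rep ⟨MulEquiv.refl Spor.M11⟩ orders_11.1 orders_11.2.1 orders_11.2.2.1 orders_11.2.2.2 x
  rw [repsOf_eq] at hi
  have key : ∀ ρ' : Spor.M11 →* Matrix (Fin 10) (Fin 10) F, (ρ' x).trace = (ρ' (ev v11 (rv i))).trace := by
    intro ρ'
    obtain ⟨c, hc⟩ := isConj_iff.1 hi
    rw [← hc, map_mul, map_mul, Matrix.trace_mul_comm, ← Matrix.mul_assoc, ← map_mul, inv_mul_cancel, map_one,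
      Matrix.one_mul]
  rw [key, key, trace_rho hs hρ i.2]
  exact htr i i.2

/-- **the additional element** -/
theorem exists_g (hC : Core P) (e : P ≃* Spor.M11) (hs : s * s = -2) (h2 : (2 : F) ≠ 0) (htr : HTr e s) :
    ∃ g : GL (Fin 10) F, g * g = 1 ∧
      ((g * (e.symm (gu 0) : P) * (g * (e.symm (gu 0) : P)) : GL (Fin 10) F) : Matrix (Fin 10) (Fin 10) F) = -1 ∧
      g * (e.symm (gu 1) : P) = (e.symm (gu 1) : P) * g ∧
      g * (e.symm (gu 2) : P) * g = (e.symm (gu 2) : P) * g * (e.symm (gu 2) : P) ∧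
      ∀ σ : F ≃+* F, σ s = -s → ∀ M : Matrix (Fin 10) (Fin 10) F,
        (∀ p ∈ P, ((p : Matrix (Fin 10) (Fin 10) F))ᵀ * M * (p : Matrix (Fin 10) (Fin 10) F).map σ = M) →
        ((g : Matrix (Fin 10) (Fin 10) F))ᵀ * M * (g : Matrix (Fin 10) (Fin 10) F).map σ = M := by
  obtain ⟨ρ, hρ⟩ := exists_rho hs h2
  have hsp := span_rhoP hC e
  have hte := trace_eq e hs htr hρ
  obtain ⟨B, hB⟩ := Cfsg.Agent.H906.exists_conj_of_trace (rhoP e) ρ hsp (span_of_trace _ _ hsp hte) hte
  obtain ⟨G1, G2, G3, G4⟩ := G_rel (F := F) hs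
  let G : GL (Fin 10) F := ⟨tm s 10 Gg, tm s 10 Gg, G1, G1⟩
  -- the generators after conjugation
  have hu : ∀ i < 3, B * ((e.symm (gu i) : P) : GL (Fin 10) F) * B⁻¹ =
      B * ((e.symm (gu i) : P) : GL (Fin 10) F) * B⁻¹ ∧
      ((B * ((e.symm (gu i) : P) : GL (Fin 10) F) * B⁻¹ : GL (Fin 10) F) : Matrix (Fin 10) (Fin 10) F) =
        tm s 10 (Mt i) := by
    intro i hi
    refine ⟨rfl, ?_⟩
    rw [Units.val_mul, Units.val_mul, ← rhoP_apply, ← hB, hρ i hi]
  have hv : ∀ i < 3, ((e.symm (gu i) : P) : GL (Fin 10) F) =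
      B⁻¹ * (B * ((e.symm (gu i) : P) : GL (Fin 10) F) * B⁻¹) * B := fun i _ => by group
  refine ⟨B⁻¹ * G * B, ?_, ?_, ?_, ?_, ?_⟩
  · have h1 : G * G = 1 := Units.ext G1
    calc B⁻¹ * G * B * (B⁻¹ * G * B) = B⁻¹ * (G * G) * B := by group
      _ = 1 := by rw [h1]; group
  · generalize hU : B * ((e.symm (gu 0) : P) : GL (Fin 10) F) * B⁻¹ = U at hu hv
    have h0 := (hu 0 (by norm_num)).2
    rw [hU] at h0
    have h1 : ((e.symm (gu 0) : P) : GL (Fin 10) F) = B⁻¹ * U * B := by rw [← hU]; group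
    have h3 : G * U * (G * U) = -1 := by
      apply Units.ext
      rw [Units.val_mul, Units.val_mul, h0, Units.val_neg, Units.val_one]
      exact G2
    have h4 : B⁻¹ * G * B * ((e.symm (gu 0) : P) : GL (Fin 10) F) *
        (B⁻¹ * G * B * ((e.symm (gu 0) : P) : GL (Fin 10) F)) = -1 := by
      rw [h1]
      calc B⁻¹ * G * B * (B⁻¹ * U * B) * (B⁻¹ * G * B * (B⁻¹ * U * B)) = B⁻¹ * (G * U * (G * U)) * B := by group
        _ = B⁻¹ * (-1) * B := by rw [h3]
        _ = -1 := by rw [mul_neg, mul_one, neg_mul, inv_mul_cancel]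
    rw [h4, Units.val_neg, Units.val_one]
  · generalize hU : B * ((e.symm (gu 1) : P) : GL (Fin 10) F) * B⁻¹ = U
    have h0 := (hu 1 (by norm_num)).2
    rw [hU] at h0
    have h1 : ((e.symm (gu 1) : P) : GL (Fin 10) F) = B⁻¹ * U * B := by rw [← hU]; group
    have h3 : G * U = U * G := by
      apply Units.ext
      rw [Units.val_mul, Units.val_mul, h0]
      exact G3
    rw [h1]
    calc B⁻¹ * G * B * (B⁻¹ * U * B) = B⁻¹ * (G * U) * B := by group
      _ = B⁻¹ * (U * G) * B := by rw [h3]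
      _ = _ := by group
  · generalize hU : B * ((e.symm (gu 2) : P) : GL (Fin 10) F) * B⁻¹ = U
    have h0 := (hu 2 (by norm_num)).2
    rw [hU] at h0
    have h1 : ((e.symm (gu 2) : P) : GL (Fin 10) F) = B⁻¹ * U * B := by rw [← hU]; group
    have h3 : G * U * G = U * G * U := by
      apply Units.ext
      rw [Units.val_mul, Units.val_mul, Units.val_mul, Units.val_mul, h0]
      exact G4
    rw [h1]
    calc B⁻¹ * G * B * (B⁻¹ * U * B) * (B⁻¹ * G * B) = B⁻¹ * (G * U * G) * B := by group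
      _ = B⁻¹ * (U * G * U) * B := by rw [h3]
      _ = _ := by group
  · intro σ hσ M hM
    have hBi : (B : Matrix (Fin 10) (Fin 10) F) * ((B⁻¹ : GL (Fin 10) F) : Matrix (Fin 10) (Fin 10) F) = 1 := by
      rw [← Units.val_mul, mul_inv_cancel, Units.val_one]
    have hiB : ((B⁻¹ : GL (Fin 10) F) : Matrix (Fin 10) (Fin 10) F) * (B : Matrix (Fin 10) (Fin 10) F) = 1 := by
      rw [← Units.val_mul, inv_mul_cancel, Units.val_one]
    have ms : ∀ X Y : Matrix (Fin 10) (Fin 10) F, (X * Y).map σ = X.map σ * Y.map σ := fun X Y => Matrix.map_mul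
    have m1 : (1 : Matrix (Fin 10) (Fin 10) F).map σ = 1 := Matrix.map_one _ (map_zero σ) (map_one σ)
    set N : Matrix (Fin 10) (Fin 10) F := (B : Matrix (Fin 10) (Fin 10) F)ᵀ * tm s 10 Ph *
      (B : Matrix (Fin 10) (Fin 10) F).map σ with hN
    have hNu : IsUnit N := by
      refine IsUnit.mul (IsUnit.mul ((Matrix.isUnit_transpose _).2 B.isUnit) (unit_Ph hs)) ?_
      exact B.isUnit.map (RingHom.mapMatrix (m := Fin 10) (σ : F →+* F))
    -- conjugates
    have cj : ∀ X : Matrix (Fin 10) (Fin 10) F, Xᵀ * tm s 10 Ph * X.map σ = tm s 10 Ph →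
        (((B⁻¹ : GL (Fin 10) F) : Matrix (Fin 10) (Fin 10) F) * X * (B : Matrix (Fin 10) (Fin 10) F))ᵀ * N *
          (((B⁻¹ : GL (Fin 10) F) : Matrix (Fin 10) (Fin 10) F) * X * (B : Matrix (Fin 10) (Fin 10) F)).map σ = N := by
      intro X hX
      have t1 : ((B⁻¹ : GL (Fin 10) F) : Matrix (Fin 10) (Fin 10) F)ᵀ * (B : Matrix (Fin 10) (Fin 10) F)ᵀ = 1 := by
        rw [← Matrix.transpose_mul, hBi, Matrix.transpose_one]
      have t2 : (B : Matrix (Fin 10) (Fin 10) F).map σ * ((B⁻¹ : GL (Fin 10) F) : Matrix (Fin 10) (Fin 10) F).map σ = 1 := by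
        rw [← ms, hBi, m1]
      rw [Matrix.transpose_mul, Matrix.transpose_mul, ms, ms, hN]
      generalize (B : Matrix (Fin 10) (Fin 10) F).map σ = Bs at *
      generalize ((B⁻¹ : GL (Fin 10) F) : Matrix (Fin 10) (Fin 10) F).map σ = Bis at *
      generalize ((B⁻¹ : GL (Fin 10) F) : Matrix (Fin 10) (Fin 10) F)ᵀ = Bit at *
      generalize (B : Matrix (Fin 10) (Fin 10) F)ᵀ = Bt at *
      generalize X.map σ = Xs at *
      calc Bt * (Xᵀ * Bit) * (Bt * tm s 10 Ph * Bs) * (Bis * Xs * Bs)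
          = Bt * (Xᵀ * (Bit * Bt) * tm s 10 Ph * (Bs * Bis) * Xs) * Bs := by simp only [Matrix.mul_assoc]
        _ = Bt * (Xᵀ * tm s 10 Ph * Xs) * Bs := by rw [t1, t2, Matrix.mul_one, Matrix.mul_one]
        _ = _ := by rw [hX]
    have hNP : ∀ p ∈ P, ((p : Matrix (Fin 10) (Fin 10) F))ᵀ * N * (p : Matrix (Fin 10) (Fin 10) F).map σ = N := by
      intro p hp
      have h1 := hB (e ⟨p, hp⟩)
      rw [rhoP_apply, MulEquiv.symm_apply_apply] at h1
      have h3 := cj _ (form_rho hs hρ hσ (e ⟨p, hp⟩))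
      rw [h1] at h3
      have h4 : ((B⁻¹ : GL (Fin 10) F) : Matrix (Fin 10) (Fin 10) F) *
          ((B : Matrix (Fin 10) (Fin 10) F) * (p : Matrix (Fin 10) (Fin 10) F) *
            ((B⁻¹ : GL (Fin 10) F) : Matrix (Fin 10) (Fin 10) F)) * (B : Matrix (Fin 10) (Fin 10) F) =
          (p : Matrix (Fin 10) (Fin 10) F) := by
        calc _ = (((B⁻¹ : GL (Fin 10) F) : Matrix (Fin 10) (Fin 10) F) * (B : Matrix (Fin 10) (Fin 10) F)) *
              (p : Matrix (Fin 10) (Fin 10) F) *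
              (((B⁻¹ : GL (Fin 10) F) : Matrix (Fin 10) (Fin 10) F) * (B : Matrix (Fin 10) (Fin 10) F)) := by
              simp only [Matrix.mul_assoc]
          _ = _ := by rw [hiB, Matrix.one_mul, Matrix.mul_one]
      rwa [h4] at h3
    obtain ⟨c, hc⟩ := Cfsg.Agent.H906.exists_smul_of_invariant hC.absIrred σ hNu hNP hM
    have h5 := cj _ (form_of_chf hs hσ chf_spec.2.2.2)
    have h6 : ((B⁻¹ * G * B : GL (Fin 10) F) : Matrix (Fin 10) (Fin 10) F) =
        ((B⁻¹ : GL (Fin 10) F) : Matrix (Fin 10) (Fin 10) F) * tm s 10 Gg * (B : Matrix (Fin 10) (Fin 10) F) := by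
      rw [Units.val_mul, Units.val_mul]
    rw [h6, hc, Matrix.mul_smul, Matrix.smul_mul, h5]

/-- `-1` is not in `P` -/
theorem neg_one_not_mem (e : P ≃* Spor.M11) (h2 : (2 : F) ≠ 0) (htr : HTr e s) {n : GL (Fin 10) F}
    (hn : (n : Matrix (Fin 10) (Fin 10) F) = -1) : n ∉ P := by
  intro hnP
  have h1 : orderOf (e ⟨n, hnP⟩) = 2 := by
    rw [MulEquiv.orderOf_eq]
    have : Fact (Nat.Prime 2) := ⟨Nat.prime_two⟩
    apply orderOf_eq_prime
    · apply Subtype.ext; apply Units.ext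
      change ((n ^ 2 : GL (Fin 10) F) : Matrix (Fin 10) (Fin 10) F) = 1
      rw [Units.val_pow_eq_pow_val, hn, neg_one_sq]
    · intro h
      have h3 : (n : Matrix (Fin 10) (Fin 10) F) = 1 := by
        rw [show n = 1 from congrArg Subtype.val h, Units.val_one]
      rw [hn] at h3
      have h4 : (-1 : Matrix (Fin 10) (Fin 10) F) 0 0 = (1 : Matrix (Fin 10) (Fin 10) F) 0 0 := congrFun (congrFun h3 0) 0
      rw [Matrix.neg_apply, Matrix.one_apply_eq] at h4
      apply h2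
      linear_combination -h4
  obtain ⟨i, hi, hi'⟩ := exists_rep ⟨MulEquiv.refl Spor.M11⟩ orders_11.1 orders_11.2.1 orders_11.2.2.1 orders_11.2.2.2
    (e ⟨n, hnP⟩)
  rw [repsOf_eq] at hi
  have h3 : i = 1 := by
    rw [h1] at hi'
    have : ∀ i : Fin 10, 2 = ordsOf i → i = 1 := by decide
    exact this i hi'
  subst h3
  obtain ⟨c, hc⟩ := isConj_iff.1 hi
  have h4 : tr ((e.symm (ev v11 (rv 1)) : P) : GL (Fin 10) F) = tr n := by
    have h5 : IsConj (e.symm (ev v11 (rv 1))) (⟨n, hnP⟩ : P) := by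
      rw [isConj_iff]
      refine ⟨e.symm c, ?_⟩
      rw [← map_inv, ← map_mul, ← map_mul]
      change e.symm (c * ev v11 (rv (1 : Fin 10)) * c⁻¹) = _
      rw [hc, MulEquiv.symm_apply_apply]
    exact tr_isConj h5
  rw [htr 1 (by norm_num)] at h4
  have h5 : tr n = -10 := by
    unfold tr
    rw [hn, Matrix.trace_neg, Matrix.trace_one, Fintype.card_fin]
    norm_num
  rw [h5] at h4
  have h6 : (zf s (rt 1) : F) = -2 := by
    change ((-2 : ℤ) : F) + ((0 : ℤ) : F) * s = -2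
    push_cast; ring
  rw [h6] at h4
  have h8 : (2 : F) * (2 * 2) = 0 := by linear_combination h4
  rcases mul_eq_zero.1 h8 with h9 | h9
  · exact h2 h9
  · rcases mul_eq_zero.1 h9 with h9 | h9 <;> exact h2 h9

/-- **General form.** -/
theorem kill_core {A H : Subgroup (GL (Fin 10) F)} (hH : IsMaximalIn A H) (hR : IsResidualCore H P)
    (e : P ≃* Spor.M11) (hs : s * s = -2) (h2 : (2 : F) ≠ 0) (htr : HTr e s) (hW : ∀ x, spf F x ∈ A)
    (hA : ∀ g : GL (Fin 10) F, Matrix.GeneralLinearGroup.det g = 1 →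
      (∀ σ : F ≃+* F, σ s = -s → ∀ M : Matrix (Fin 10) (Fin 10) F,
        (∀ p ∈ P, ((p : Matrix (Fin 10) (Fin 10) F))ᵀ * M * (p : Matrix (Fin 10) (Fin 10) F).map σ = M) →
        ((g : Matrix (Fin 10) (Fin 10) F))ᵀ * M * (g : Matrix (Fin 10) (Fin 10) F).map σ = M) → g ∈ A) : False := by
  have hC := core_of_residual hR
  obtain ⟨g, gg, g0, g1, ga, hform⟩ := exists_g hC e hs h2 htr
  have hZ : ∀ z ∈ scalars (Fin 10) F, ∀ x, z * x = x * z := fun z hz x => H920.scalars_comm hz x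
  have hnorm : (scalars (Fin 10) F).Normal := ⟨fun z hz x => by
    rw [← hZ z hz, mul_assoc, mul_inv_cancel, mul_one]; exact hz⟩
  have hgA : g ∈ A := by
    apply hA g _ hform
    have h3 := congrArg Matrix.GeneralLinearGroup.det ga
    simp only [map_mul] at h3
    rw [hC.det (e.symm (gu 2)).2, mul_one, one_mul, mul_one] at h3
    exact mul_eq_right.1 h3
  -- modulo scalars
  set q := QuotientGroup.mk' (scalars (Fin 10) F) with hq
  have q1 : ∀ x, x ∈ scalars (Fin 10) F → q x = 1 := fun x hx => (QuotientGroup.eq_one_iff x).2 hx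
  have qe : ∀ x y, q x = q y → ∃ z ∈ scalars (Fin 10) F, x = y * z := by
    intro x y hxy
    have h3 := QuotientGroup.eq.1 hxy.symm
    exact ⟨y⁻¹ * x, h3, by group⟩
  have hM0 : ∀ r ∈ M0, q ((e.symm r : P) : GL (Fin 10) F) ∈
      Subgroup.closure ({q ((e.symm (gu 0) : P) : GL (Fin 10) F), q ((e.symm (gu 1) : P) : GL (Fin 10) F)} : Set _) := by
    intro r hr
    induction hr using Subgroup.closure_induction with
    | mem x hx =>
      rcases hx with rfl | hx
      · exact Subgroup.subset_closure (Or.inl rfl)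
      · rw [Set.mem_singleton_iff.1 hx]; exact Subgroup.subset_closure (Or.inr rfl)
    | one => rw [map_one, Subgroup.coe_one, map_one]; exact Subgroup.one_mem _
    | mul x y _ _ hx hy => rw [map_mul, Subgroup.coe_mul, map_mul]; exact Subgroup.mul_mem _ hx hy
    | inv x _ hx => rw [map_inv, Subgroup.coe_inv, map_inv]; exact Subgroup.inv_mem _ hx
  obtain ⟨Q, hPQ, hgQ, hQ⟩ := exists_Q (P := P.map q) (u1 := q ((e.symm (gu 0) : P) : GL (Fin 10) F))
    (u2 := q ((e.symm (gu 1) : P) : GL (Fin 10) F)) (a := q ((e.symm (gu 2) : P) : GL (Fin 10) F)) (g := q g)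
    ⟨_, (e.symm (gu 0)).2, rfl⟩ ⟨_, (e.symm (gu 1)).2, rfl⟩ ⟨_, (e.symm (gu 2)).2, rfl⟩
    (by rw [← map_mul, gg, map_one])
    (by
      rw [← map_mul, ← map_mul]
      apply q1
      rw [mem_scalars_iff]
      exact ⟨-1, by rw [g0, Units.val_neg, Units.val_one, neg_one_smul]⟩)
    (by rw [← map_mul, ← map_mul, g1])
    (by rw [← map_mul, ← map_mul, ← map_mul, ← map_mul, ga])
    (by
      rintro _ ⟨p, hp, rfl⟩
      rcases dec11 (e ⟨p, hp⟩) with h | ⟨b, hb, c, hc, h⟩
      · left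
        have := hM0 _ h
        rwa [MulEquiv.symm_apply_apply] at this
      · right
        refine ⟨_, hM0 b hb, _, hM0 c hc, ?_⟩
        have h3 := congrArg e.symm h
        rw [MulEquiv.symm_apply_apply, map_mul, map_mul] at h3
        have h4 : p = ((e.symm b : P) : GL (Fin 10) F) * ((e.symm (gu 2) : P) : GL (Fin 10) F) *
          ((e.symm c : P) : GL (Fin 10) F) := congrArg Subtype.val h3
        rw [← map_mul, ← map_mul, ← h4])
  -- the normaliser
  have hHM : H ≤ Q.comap q := by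
    intro h hh
    have hn1 : ∀ y ∈ P, h * y * h⁻¹ ∈ P := fun y hy => hR.normal h hh y hy
    have hn2 : ∀ y ∈ P, h⁻¹ * y * h ∈ P := fun y hy => by
      have := hR.normal h⁻¹ (H.inv_mem hh) y hy
      rwa [inv_inv] at this
    let φ : P ≃* P :=
      { toFun := fun y => ⟨h * y * h⁻¹, hn1 y y.2⟩
        invFun := fun y => ⟨h⁻¹ * y * h, hn2 y y.2⟩
        left_inv := fun y => by apply Subtype.ext; change h⁻¹ * (h * y * h⁻¹) * h = y; group
        right_inv := fun y => by apply Subtype.ext; change h * (h⁻¹ * y * h) * h⁻¹ = y; group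
        map_mul' := fun x y => by
          apply Subtype.ext
          change h * ((x : GL (Fin 10) F) * y) * h⁻¹ = h * x * h⁻¹ * (h * y * h⁻¹)
          group }
    obtain ⟨p, hp⟩ := inner ((e.symm.trans φ).trans e)
    have h3 : ∀ y : P, φ y = e.symm p * y * (e.symm p)⁻¹ := by
      intro y
      have h4 := hp (e y)
      change e (φ (e.symm (e y))) = _ at h4
      rw [MulEquiv.symm_apply_apply] at h4
      apply e.injective
      rw [h4, map_mul, map_mul, map_inv, MulEquiv.apply_symm_apply]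
    have h4 : ((e.symm p : P) : GL (Fin 10) F)⁻¹ * h ∈ scalars (Fin 10) F := by
      apply H920.mem_scalars_of_comm' hC.absIrred
      intro y hy
      have h5 : h * y * h⁻¹ = ((e.symm p : P) : GL (Fin 10) F) * y * ((e.symm p : P) : GL (Fin 10) F)⁻¹ :=
        congrArg Subtype.val (h3 ⟨y, hy⟩)
      calc ((e.symm p : P) : GL (Fin 10) F)⁻¹ * h * y
          = ((e.symm p : P) : GL (Fin 10) F)⁻¹ * (h * y * h⁻¹) * h := by group
        _ = ((e.symm p : P) : GL (Fin 10) F)⁻¹ * (((e.symm p : P) : GL (Fin 10) F) * y *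
              ((e.symm p : P) : GL (Fin 10) F)⁻¹) * h := by rw [h5]
        _ = _ := by group
    have h6 := q1 _ h4
    rw [map_mul, map_inv, inv_mul_eq_one] at h6
    change q h ∈ Q
    rw [← h6]
    exact hPQ ⟨_, (e.symm p).2, rfl⟩
  rcases hH.2 (Q.comap q ⊓ A) (le_inf hHM hH.1.le) inf_le_right with h3 | h3
  · -- `g` would normalise `P`
    have h4 : g ∈ H := by
      rw [← h3]
      exact ⟨hgQ, hgA⟩
    have h5 := hR.normal g h4 _ (e.symm (gu 0)).2
    have h6 : g⁻¹ = g := inv_eq_of_mul_eq_one_left gg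
    rw [h6] at h5
    refine neg_one_not_mem e h2 htr g0 ?_
    have h7 := P.mul_mem h5 (e.symm (gu 0)).2
    rwa [mul_assoc] at h7
  · have h4 : ∀ x, q (spf F x) ∈ Q := by
      intro x
      have := hW x
      rw [← h3] at this
      exact this.1
    have hfM : Nat.card Spor.M11 = 7920 :=
      (Cfsg.Agent.Cit.Eleven.isM11 (L := Spor.M11) ⟨MulEquiv.refl Spor.M11⟩).2
    have hcP : Nat.card P = 7920 := by rw [Nat.card_congr e.toEquiv, hfM]
    have hfP : Finite P := Nat.finite_of_card_ne_zero (by rw [hcP]; norm_num)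
    have hfin : Finite (P.map q) := inferInstance
    obtain ⟨hQf, hQc⟩ := card_Q hQ
    have hcm : Nat.card (P.map q) ≤ 7920 := by
      rw [← hcP]
      exact Nat.card_le_card_of_surjective (fun p : P => (⟨q p, ⟨p, p.2, rfl⟩⟩ : P.map q)) (by
        rintro ⟨_, p, hp, rfl⟩
        exact ⟨⟨p, hp⟩, rfl⟩)
    have h5 : Nat.card ((Fin 8 → ℤˣ) × Equiv.Perm (Fin 10)) ≤ Nat.card Q :=
      Nat.card_le_card_of_injective (fun x => (⟨q (spf F x), h4 x⟩ : Q)) (by
        intro x y hxy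
        obtain ⟨z, hz, h6⟩ := qe _ _ (congrArg Subtype.val hxy)
        exact spf_inj h2 x y z hz h6)
    rw [card_X] at h5
    have h6 : Nat.card (P.map q) * Nat.card (P.map q) ≤ 7920 * 7920 := Nat.mul_le_mul hcm hcm
    omega

end Cfsg.Agent.H840.M11
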