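import Cfsg.Agent.H840.M11.TrZ

/-!
# Further representations of `M11` : the deleted permutation representation of degree ten, and a representation of
degree six in characteristic three
-/

set_option autoImplicit false
set_option linter.unusedSectionVars false
set_option linter.unusedVariables false
set_option maxRecDepth 100000

namespace Cfsg.Agent.H840.M11

open Cfsg Cfsg.Agent.CoThreeStd.MTwelve Cfsg.Agent.H6.M11 Cfsg.Agent.SporadicStructure.M11InvPerms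
open scoped Matrix

/-- codes of the twelve points -/
def pc2 (i : ℕ) : ℕ := [5,7,10,11,14,15,17,19,20,21,22,23].getD i 0
/-- index of a code -/
def ix2 (c : ℕ) : ℕ := [12,12,12,12,12,0,12,1,12,12,2,3,12,12,4,5,12,6,12,7,8,9,10,11].getD c 12
/-- permutations of the twelve points -/
def pp2 (i : ℕ) : List ℕ := [[3,8,5,9,10,6,0,11,2,1,7,4],[7,6,2,3,9,4,11,8,0,5,10,1],[0,2,1,3,10,6,5,7,11,9,4,8]].getD i []

/-- twelve vectors of length six, modulo 3 -/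
def tab6 : List (List Zs) := [
  [(1,0),(0,0),(0,0),(0,0),(0,0),(0,0)],
  [(0,0),(1,0),(0,0),(0,0),(0,0),(0,0)],
  [(0,0),(0,0),(1,0),(0,0),(0,0),(0,0)],
  [(0,0),(0,0),(0,0),(1,0),(0,0),(0,0)],
  [(0,0),(0,0),(0,0),(0,0),(1,0),(0,0)],
  [(0,0),(0,0),(0,0),(0,0),(0,0),(1,0)],
  [(1,0),(2,0),(0,0),(2,0),(1,0),(1,0)],
  [(1,0),(0,0),(2,0),(1,0),(2,0),(1,0)],
  [(0,0),(2,0),(2,0),(2,0),(2,0),(2,0)],
  [(1,0),(1,0),(2,0),(0,0),(1,0),(2,0)],
  [(1,0),(1,0),(1,0),(2,0),(2,0),(0,0)],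
  [(1,0),(2,0),(1,0),(1,0),(0,0),(2,0)]]

/-- six-dimensional representation modulo 3 -/
def N0 : List (List Zs) := [
  [(0,0),(0,0),(0,0),(1,0),(1,0),(1,0)],
  [(0,0),(2,0),(0,0),(1,0),(1,0),(2,0)],
  [(0,0),(2,0),(0,0),(2,0),(1,0),(0,0)],
  [(1,0),(2,0),(0,0),(0,0),(2,0),(2,0)],
  [(0,0),(2,0),(0,0),(1,0),(2,0),(1,0)],
  [(0,0),(2,0),(1,0),(2,0),(0,0),(1,0)]]

/-- six-dimensional representation modulo 3 -/
def N1 : List (List Zs) := [
  [(1,0),(1,0),(0,0),(0,0),(1,0),(0,0)],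
  [(0,0),(2,0),(0,0),(0,0),(1,0),(0,0)],
  [(2,0),(0,0),(1,0),(0,0),(2,0),(0,0)],
  [(1,0),(2,0),(0,0),(1,0),(0,0),(0,0)],
  [(2,0),(1,0),(0,0),(0,0),(1,0),(1,0)],
  [(1,0),(1,0),(0,0),(0,0),(2,0),(0,0)]]

/-- six-dimensional representation modulo 3 -/
def N2 : List (List Zs) := [
  [(1,0),(0,0),(0,0),(0,0),(1,0),(1,0)],
  [(0,0),(0,0),(1,0),(0,0),(1,0),(2,0)],
  [(0,0),(1,0),(0,0),(0,0),(1,0),(0,0)],
  [(0,0),(0,0),(0,0),(1,0),(2,0),(2,0)],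
  [(0,0),(0,0),(0,0),(0,0),(2,0),(1,0)],
  [(0,0),(0,0),(0,0),(0,0),(0,0),(1,0)]]

/-- deleted permutation representation -/
def D0 : List (List Zs) := [
  [(1,0),(0,0),(0,0),(-1,0),(0,0),(0,0),(0,0),(0,0),(0,0),(0,0)],
  [(0,0),(0,0),(0,0),(-1,0),(0,0),(0,0),(0,0),(0,0),(0,0),(0,0)],
  [(0,0),(0,0),(0,0),(-1,0),(0,0),(0,0),(0,0),(0,0),(1,0),(0,0)],
  [(0,0),(0,0),(1,0),(-1,0),(0,0),(0,0),(0,0),(0,0),(0,0),(0,0)],
  [(0,0),(0,0),(0,0),(-1,0),(0,0),(0,0),(0,0),(0,0),(0,0),(1,0)],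
  [(0,0),(0,0),(0,0),(-1,0),(0,0),(0,0),(1,0),(0,0),(0,0),(0,0)],
  [(0,0),(0,0),(0,0),(-1,0),(0,0),(1,0),(0,0),(0,0),(0,0),(0,0)],
  [(0,0),(1,0),(0,0),(-1,0),(0,0),(0,0),(0,0),(0,0),(0,0),(0,0)],
  [(0,0),(0,0),(0,0),(-1,0),(1,0),(0,0),(0,0),(0,0),(0,0),(0,0)],
  [(0,0),(0,0),(0,0),(-1,0),(0,0),(0,0),(0,0),(1,0),(0,0),(0,0)]]

/-- deleted permutation representation -/
def D1 : List (List Zs) := [
  [(1,0),(0,0),(0,0),(0,0),(0,0),(0,0),(0,0),(-1,0),(0,0),(0,0)],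
  [(0,0),(0,0),(1,0),(0,0),(0,0),(0,0),(0,0),(-1,0),(0,0),(0,0)],
  [(0,0),(0,0),(0,0),(0,0),(1,0),(0,0),(0,0),(-1,0),(0,0),(0,0)],
  [(0,0),(0,0),(0,0),(0,0),(0,0),(1,0),(0,0),(-1,0),(0,0),(0,0)],
  [(0,0),(1,0),(0,0),(0,0),(0,0),(0,0),(0,0),(-1,0),(0,0),(0,0)],
  [(0,0),(0,0),(0,0),(0,0),(0,0),(0,0),(0,0),(-1,0),(0,0),(1,0)],
  [(0,0),(0,0),(0,0),(0,0),(0,0),(0,0),(1,0),(-1,0),(0,0),(0,0)],
  [(0,0),(0,0),(0,0),(0,0),(0,0),(0,0),(0,0),(-1,0),(1,0),(0,0)],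
  [(0,0),(0,0),(0,0),(0,0),(0,0),(0,0),(0,0),(-1,0),(0,0),(0,0)],
  [(0,0),(0,0),(0,0),(1,0),(0,0),(0,0),(0,0),(-1,0),(0,0),(0,0)]]

/-- deleted permutation representation -/
def D2 : List (List Zs) := [
  [(0,0),(0,0),(0,0),(1,0),(0,0),(0,0),(-1,0),(0,0),(0,0),(0,0)],
  [(0,0),(1,0),(0,0),(0,0),(0,0),(0,0),(-1,0),(0,0),(0,0),(0,0)],
  [(0,0),(0,0),(1,0),(0,0),(0,0),(0,0),(-1,0),(0,0),(0,0),(0,0)],
  [(1,0),(0,0),(0,0),(0,0),(0,0),(0,0),(-1,0),(0,0),(0,0),(0,0)],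
  [(0,0),(0,0),(0,0),(0,0),(0,0),(0,0),(-1,0),(0,0),(0,0),(1,0)],
  [(0,0),(0,0),(0,0),(0,0),(0,0),(0,0),(-1,0),(0,0),(1,0),(0,0)],
  [(0,0),(0,0),(0,0),(0,0),(0,0),(0,0),(-1,0),(0,0),(0,0),(0,0)],
  [(0,0),(0,0),(0,0),(0,0),(0,0),(0,0),(-1,0),(1,0),(0,0),(0,0)],
  [(0,0),(0,0),(0,0),(0,0),(0,0),(1,0),(-1,0),(0,0),(0,0),(0,0)],
  [(0,0),(0,0),(0,0),(0,0),(1,0),(0,0),(-1,0),(0,0),(0,0),(0,0)]]

/-- vectors of the eleven points -/
def om1 (i : ℕ) : List Zs := if i < 10 then bv 10 i else [(-1, 0), (-1, 0), (-1, 0), (-1, 0), (-1, 0), (-1, 0), (-1, 0),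
  (-1, 0), (-1, 0), (-1, 0)]

/-- vectors of the twelve points -/
def om6 (i : ℕ) : List Zs := tab6.getD i []

/-- matrices of the generators, degree six -/
def Nt (i : ℕ) : List (List Zs) := [N0, N1, N2].getD i []

/-- matrices of the generators, degree ten -/
def Dt (i : ℕ) : List (List Zs) := [D0, D1, D2].getD i []

/-- A point model. -/
structure Pm (q : ℤ) (n N : ℕ) (pcx ixx : ℕ → ℕ) (perm : ℕ → List ℕ) (omx : ℕ → List Zs) (Mx : ℕ → List (List Zs)) :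
    Prop where
  ix : ∀ c < 24, ixx c < N → pcx (ixx c) = c
  pm : ∀ i < 3, ∀ j < N, (perm i).getD j 0 = ixx (act ((UL i).flatMap W) (pcx j)) ∧ (perm i).getD j 0 < N
  ac : ∀ i < 3, ∀ j < N, eqv q n (mv (Mx i) (omx j)) (omx ((perm i).getD j 0)) = true
  ok : ∀ i < 3, okm n (Mx i) = true
  bs : ∀ j < n, j < N ∧ pcx j < 24 ∧ ixx (pcx j) = j ∧ eqv q n (omx j) (bv n j) = true

theorem pm6 : Pm 3 6 12 pc2 ix2 pp2 om6 Nt where
  ix := by decide +kernel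
  pm := by decide +kernel
  ac := by decide +kernel
  ok := by decide +kernel
  bs := by decide +kernel

theorem pm10 : Pm 0 10 11 pc ix pp om1 Dt where
  ix := by decide +kernel
  pm := by decide +kernel
  ac := by decide +kernel
  ok := by decide +kernel
  bs := by decide +kernel

theorem gu_ne : gu 0 ≠ gu 1 ∧ gu 0 ≠ gu 2 ∧ gu 1 ≠ gu 2 := by
  have h : ∀ i < 3, ∀ j < 3, i ≠ j → act ((UL i).flatMap W) 1 ≠ act ((UL j).flatMap W) 1 ∨
      act ((UL i).flatMap W) 2 ≠ act ((UL j).flatMap W) 2 ∨ act ((UL i).flatMap W) 3 ≠ act ((UL j).flatMap W) 3 := by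
    decide +kernel
  have key : ∀ i < 3, ∀ j < 3, i ≠ j → gu i ≠ gu j := by
    intro i hi j hj hij heq
    have h3 : ∀ c < 24, act ((UL i).flatMap W) c = act ((UL j).flatMap W) c := by
      intro c hc
      have := congrArg (fun x : Spor.M11 => enc (x • dec c)) heq
      simp only [gu, enc_smul, enc_dec c hc] at this
      exact this
    rcases h i hi j hj hij with h4 | h4 | h4
    · exact h4 (h3 1 (by norm_num))
    · exact h4 (h3 2 (by norm_num))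
    · exact h4 (h3 3 (by norm_num))
  exact ⟨key 0 (by norm_num) 1 (by norm_num) (by norm_num), key 0 (by norm_num) 2 (by norm_num) (by norm_num),
    key 1 (by norm_num) 2 (by norm_num) (by norm_num)⟩

section F

variable {F : Type*} [Field F] {s : F} {q : ℤ} {n N : ℕ} {pcx ixx : ℕ → ℕ} {perm : ℕ → List ℕ} {omx : ℕ → List Zs}
  {Mx : ℕ → List (List Zs)}

theorem Pm.exists_rho (h : Pm q n N pcx ixx perm omx Mx) (hs : s * s = -2) (hq : (q : F) = 0) :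
    ∃ ρ : Spor.M11 →* Matrix (Fin n) (Fin n) F, ∀ i < 3, ρ (gu i) = tm s n (Mx i) := by
  classical
  let A : Spor.M11 → Matrix (Fin n) (Fin n) F := fun x =>
    if x = gu 0 then tm s n (Mx 0) else if x = gu 1 then tm s n (Mx 1) else tm s n (Mx 2)
  have hA : ∀ i < 3, A (gu i) = tm s n (Mx i) := by
    intro i hi
    interval_cases i
    · exact if_pos rfl
    · exact (if_neg gu_ne.1.symm).trans (if_pos rfl)
    · exact (if_neg gu_ne.2.1.symm).trans (if_neg gu_ne.2.2.symm)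
  let ω : GolayPt → Fin n → F := fun p => tv s n (omx (ixx (enc p)))
  let S : Set GolayPt := {p | ixx (enc p) < N}
  have hspan : Submodule.span F (ω '' S) = ⊤ := by
    rw [eq_top_iff]
    intro v _
    rw [← Finset.univ_sum_single v]
    refine Submodule.sum_mem _ fun i _ => ?_
    have : (Pi.single i (v i) : Fin n → F) = v i • (Pi.single i 1 : Fin n → F) := by
      rw [← Pi.single_smul, smul_eq_mul, mul_one]
    rw [this]
    refine Submodule.smul_mem _ _ (Submodule.subset_span ⟨dec (pcx i), ?_, ?_⟩)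
    · obtain ⟨h1, h2, h3, -⟩ := h.bs i i.2
      change ixx (enc (dec (pcx i))) < N
      rw [enc_dec _ h2, h3]
      exact h1
    · obtain ⟨h1, h2, h3, h4⟩ := h.bs i i.2
      change tv s n (omx (ixx (enc (dec (pcx i))))) = _
      rw [enc_dec _ h2, h3, eqv_spec hq h4, bv_spec]
  obtain ⟨ρ, -, hρ⟩ := exists_hom ω S ({gu 0, gu 1, gu 2} : Set Spor.M11) gen_gu A (by
    intro x hx p hp
    obtain ⟨i, hi, rfl⟩ : ∃ i < 3, x = gu i := by
      rcases hx with rfl | rfl | hx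
      · exact ⟨0, by norm_num, rfl⟩
      · exact ⟨1, by norm_num, rfl⟩
      · exact ⟨2, by norm_num, hx⟩
    have h1 : ixx (enc (gu i • p)) = (perm i).getD (ixx (enc p)) 0 := by
      rw [gu, enc_smul, (h.pm i hi _ hp).1, h.ix _ (enc_lt p) hp]
    refine ⟨?_, ?_⟩
    · change ixx (enc (gu i • p)) < N
      rw [h1]; exact (h.pm i hi _ hp).2
    · rw [hA i hi]
      change tm s n (Mx i) *ᵥ tv s n (omx (ixx (enc p))) = tv s n (omx (ixx (enc (gu i • p))))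
      rw [h1, mv_spec hs (h.ok i hi), eqv_spec hq (h.ac i hi _ hp)]) hspan
  refine ⟨ρ, fun i hi => ?_⟩
  rw [← hA i hi]
  apply hρ
  interval_cases i
  · exact Or.inl rfl
  · exact Or.inr (Or.inl rfl)
  · exact Or.inr (Or.inr rfl)

theorem rho_ev' {ρ : Spor.M11 →* Matrix (Fin n) (Fin n) F} (hρ : ∀ i < 3, ρ (gu i) = tm s n (Mx i)) :
    ∀ {w : List ℕ}, w.all (fun j => decide (j < 3)) = true → ρ (ev gu w) = ((w.map Mx).map (tm s n)).prod := by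
  intro w
  induction w with
  | nil => intro _; rw [ev_nil, map_one]; rfl
  | cons i w ih =>
    intro h
    rw [List.all_cons, Bool.and_eq_true] at h
    rw [ev_cons, map_mul, hρ i (of_decide_eq_true h.1), ih h.2]
    rfl

theorem Pm.trace (h : Pm q n N pcx ixx perm omx Mx) (hs : s * s = -2)
    {ρ : Spor.M11 →* Matrix (Fin n) (Fin n) F} (hρ : ∀ i < 3, ρ (gu i) = tm s n (Mx i)) {i : ℕ} (hi : i < 10) :
    (ρ (ev v11 (rv i))).trace = zf s (trw n ((rg i).map Mx)) := by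
  rw [ev_rv hi, rho_ev' hρ (rg_lt i hi), trace_spec hs]
  intro M hM
  obtain ⟨j, hj, rfl⟩ := List.mem_map.1 hM
  exact h.ok j (of_decide_eq_true (List.all_eq_true.1 (rg_lt i hi) j hj))

end F

/-- traces, degree six -/
def rt6 (i : ℕ) : Zs := [(0, 0), (2, 0), (0, 0), (0, 0), (1, 0), (2, 0), (2, 0), (1, 0), (1, 0), (0, 0)].getD i (0, 0)

/-- traces, degree ten -/
def rtD (i : ℕ) : Zs := [(10, 0), (2, 0), (1, 0), (2, 0), (0, 0), (-1, 0), (0, 0), (0, 0), (-1, 0), (-1, 0)].getD i (0, 0)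

theorem rt6_spec : ∀ i < 10, zr 3 (trw 6 ((rg i).map Nt)) = rt6 i := by decide +kernel

theorem rtD_spec : ∀ i < 10, trw 10 ((rg i).map Dt) = rtD i := by decide +kernel

end Cfsg.Agent.H840.M11
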