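import Cfsg.Agent.H840.M11.Zx
import Cfsg.Agent.H840.M11.Mod3
import Cfsg.Agent.H840.M11.K5

/-!
# Relations between the traces if elements of order 11 have no fixed vectors
-/

set_option autoImplicit false
set_option linter.unusedSectionVars false
set_option linter.unusedVariables false
set_option maxRecDepth 100000

namespace Cfsg.Agent.H840.M11

open Module LinearMap
open Cfsg Cfsg.Agent.CoThreeStd.MTwelve Cfsg.Agent.H6.M11

variable {k : Type*} [Field k] {V : Type*} [AddCommGroup V] [Module k V] [FiniteDimensional k V]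
  {R : Spor.M11 →* End k V}

/-- the relation -/
theorem sum_eleven (h11 : ((11 : ℕ) : k) ≠ 0) (h0 : finrank k (End.eigenspace (op v11 R [5]) 1) = 0) (w : List ℕ) :
    ∑ i ∈ Finset.range 11, tw v11 R (w ++ List.replicate i 5) = 0 := by
  have hX := sat_11.toL.pow_eleven (R := R)
  have h1 : av 11 (op v11 R [5]) = 0 := by
    ext u
    have h2 : av 11 (op v11 R [5]) u ∈ End.eigenspace (op v11 R [5]) 1 := by
      rw [End.mem_eigenspace_iff, one_smul]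
      exact av_apply_mem hX u
    rw [Submodule.finrank_eq_zero.1 h0, Submodule.mem_bot] at h2
    exact h2
  have h2 : LinearMap.trace k V (op v11 R w * av 11 (op v11 R [5])) = 0 := by rw [h1, mul_zero, map_zero]
  rw [av, mul_smul_comm, map_smul, smul_eq_mul, Finset.mul_sum, map_sum] at h2
  have h3 := (mul_eq_zero.1 h2).resolve_left (inv_ne_zero h11)
  rw [← h3]
  refine Finset.sum_congr rfl fun i _ => ?_
  rw [tw, op_append, op_replicate]

theorem rel_a (h11 : ((11 : ℕ) : k) ≠ 0) (h0 : finrank k (End.eigenspace (op v11 R [5]) 1) = 0) :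
    tw v11 R [] + 5 * tw v11 R [5] + 5 * tw v11 R [5, 5, 5, 5, 5, 5, 5, 5, 5, 5] = 0 := by
  have h := sum_eleven (R := R) h11 h0 []
  have e : ∑ i ∈ Finset.range 11, tw v11 R ([] ++ List.replicate i 5) =
      tw v11 R [] +
      tw v11 R [5] +
      tw v11 R [5, 5] +
      tw v11 R [5, 5, 5] +
      tw v11 R [5, 5, 5, 5] +
      tw v11 R [5, 5, 5, 5, 5] +
      tw v11 R [5, 5, 5, 5, 5, 5] +
      tw v11 R [5, 5, 5, 5, 5, 5, 5] +
      tw v11 R [5, 5, 5, 5, 5, 5, 5, 5] +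
      tw v11 R [5, 5, 5, 5, 5, 5, 5, 5, 5] +
      tw v11 R [5, 5, 5, 5, 5, 5, 5, 5, 5, 5] := by
    simp only [Finset.sum_range_succ, Finset.sum_range_zero, zero_add]
    rfl
  rw [e] at h
  have a2 : tw v11 R [5, 5] = tw v11 R [5, 5, 5, 5, 5, 5, 5, 5, 5, 5] := tw_conj [6, 6] (by decide +kernel)
  have a3 : tw v11 R [5, 5, 5] = tw v11 R [5] := tw_conj [6] (by decide +kernel)
  have a4 : tw v11 R [5, 5, 5, 5] = tw v11 R [5] := tw_conj [3, 6, 0] (by decide +kernel)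
  have a5 : tw v11 R [5, 5, 5, 5, 5] = tw v11 R [5] := tw_conj [6, 6, 6] (by decide +kernel)
  have a6 : tw v11 R [5, 5, 5, 5, 5, 5] = tw v11 R [5, 5, 5, 5, 5, 5, 5, 5, 5, 5] := tw_conj [6, 6, 6] (by decide +kernel)
  have a7 : tw v11 R [5, 5, 5, 5, 5, 5, 5] = tw v11 R [5, 5, 5, 5, 5, 5, 5, 5, 5, 5] := tw_conj [3, 6, 0] (by decide +kernel)
  have a8 : tw v11 R [5, 5, 5, 5, 5, 5, 5, 5] = tw v11 R [5, 5, 5, 5, 5, 5, 5, 5, 5, 5] := tw_conj [6] (by decide +kernel)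
  have a9 : tw v11 R [5, 5, 5, 5, 5, 5, 5, 5, 5] = tw v11 R [5] := tw_conj [6, 6] (by decide +kernel)
  rw [a2, a3, a4, a5, a6, a7, a8, a9] at h
  linear_combination h

theorem rel_b (h11 : ((11 : ℕ) : k) ≠ 0) (h0 : finrank k (End.eigenspace (op v11 R [5]) 1) = 0) :
    tw v11 R [3] + 2 * tw v11 R [0] + 4 * tw v11 R [6] + 2 * tw v11 R [3, 0] + tw v11 R [5] + tw v11 R [5, 5, 5, 5, 5, 5, 5, 5, 5, 5] = 0 := by
  have h := sum_eleven (R := R) h11 h0 [7]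
  have e : ∑ i ∈ Finset.range 11, tw v11 R ([7] ++ List.replicate i 5) =
      tw v11 R [7] +
      tw v11 R [7, 5] +
      tw v11 R [7, 5, 5] +
      tw v11 R [7, 5, 5, 5] +
      tw v11 R [7, 5, 5, 5, 5] +
      tw v11 R [7, 5, 5, 5, 5, 5] +
      tw v11 R [7, 5, 5, 5, 5, 5, 5] +
      tw v11 R [7, 5, 5, 5, 5, 5, 5, 5] +
      tw v11 R [7, 5, 5, 5, 5, 5, 5, 5, 5] +
      tw v11 R [7, 5, 5, 5, 5, 5, 5, 5, 5, 5] +
      tw v11 R [7, 5, 5, 5, 5, 5, 5, 5, 5, 5, 5] := by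
    simp only [Finset.sum_range_succ, Finset.sum_range_zero, zero_add]
    rfl
  rw [e] at h
  have b0 : tw v11 R [7] = tw v11 R [3] := tw_conj [2, 4, 5] (by decide +kernel)
  have b1 : tw v11 R [7, 5] = tw v11 R [0] := tw_conj [2, 6, 5, 6] (by decide +kernel)
  have b2 : tw v11 R [7, 5, 5] = tw v11 R [5, 5, 5, 5, 5, 5, 5, 5, 5, 5] := tw_conj [7, 5] (by decide +kernel)
  have b3 : tw v11 R [7, 5, 5, 5] = tw v11 R [6] := tw_conj [2, 2, 3, 5] (by decide +kernel)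
  have b4 : tw v11 R [7, 5, 5, 5, 5] = tw v11 R [6] := tw_conj [3, 8, 6, 8] (by decide +kernel)
  have b5 : tw v11 R [7, 5, 5, 5, 5, 5] = tw v11 R [3, 0] := tw_conj [8, 4, 2] (by decide +kernel)
  have b6 : tw v11 R [7, 5, 5, 5, 5, 5, 5] = tw v11 R [3, 0] := tw_conj [4, 2, 7] (by decide +kernel)
  have b7 : tw v11 R [7, 5, 5, 5, 5, 5, 5, 5] = tw v11 R [6] := tw_conj [1, 6, 1, 3] (by decide +kernel)
  have b8 : tw v11 R [7, 5, 5, 5, 5, 5, 5, 5, 5] = tw v11 R [6] := tw_conj [3, 4, 7, 5] (by decide +kernel)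
  have b9 : tw v11 R [7, 5, 5, 5, 5, 5, 5, 5, 5, 5] = tw v11 R [5] := tw_conj [7, 5, 7] (by decide +kernel)
  have b10 : tw v11 R [7, 5, 5, 5, 5, 5, 5, 5, 5, 5, 5] = tw v11 R [0] := tw_conj [4, 0, 0, 5] (by decide +kernel)
  rw [b0, b1, b2, b3, b4, b5, b6, b7, b8, b9, b10] at h
  linear_combination h

theorem rel_c (h11 : ((11 : ℕ) : k) ≠ 0) (h0 : finrank k (End.eigenspace (op v11 R [5]) 1) = 0) :
    tw v11 R [0] + 2 * tw v11 R [6] + tw v11 R [5] + tw v11 R [5, 5, 5, 5, 5, 5, 5, 5, 5, 5] + 2 * tw v11 R [2] + 2 * tw v11 R [2, 2, 2, 2, 2, 2, 2] +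
      tw v11 R [2, 2] + tw v11 R [3, 0] = 0 := by
  have h := sum_eleven (R := R) h11 h0 [4]
  have e : ∑ i ∈ Finset.range 11, tw v11 R ([4] ++ List.replicate i 5) =
      tw v11 R [4] +
      tw v11 R [4, 5] +
      tw v11 R [4, 5, 5] +
      tw v11 R [4, 5, 5, 5] +
      tw v11 R [4, 5, 5, 5, 5] +
      tw v11 R [4, 5, 5, 5, 5, 5] +
      tw v11 R [4, 5, 5, 5, 5, 5, 5] +
      tw v11 R [4, 5, 5, 5, 5, 5, 5, 5] +
      tw v11 R [4, 5, 5, 5, 5, 5, 5, 5, 5] +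
      tw v11 R [4, 5, 5, 5, 5, 5, 5, 5, 5, 5] +
      tw v11 R [4, 5, 5, 5, 5, 5, 5, 5, 5, 5, 5] := by
    simp only [Finset.sum_range_succ, Finset.sum_range_zero, zero_add]
    rfl
  rw [e] at h
  have c0 : tw v11 R [4] = tw v11 R [0] := tw_conj [4, 3, 6] (by decide +kernel)
  have c1 : tw v11 R [4, 5] = tw v11 R [6] := tw_conj [0, 1, 5, 4] (by decide +kernel)
  have c2 : tw v11 R [4, 5, 5] = tw v11 R [5] := tw_conj [1, 3, 4, 8] (by decide +kernel)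
  have c3 : tw v11 R [4, 5, 5, 5] = tw v11 R [2] := tw_conj [1, 4, 4, 8] (by decide +kernel)
  have c4 : tw v11 R [4, 5, 5, 5, 5] = tw v11 R [5, 5, 5, 5, 5, 5, 5, 5, 5, 5] := tw_conj [4, 7, 5] (by decide +kernel)
  have c5 : tw v11 R [4, 5, 5, 5, 5, 5] = tw v11 R [6] := tw_conj [0, 0, 4, 5, 8] (by decide +kernel)
  have c6 : tw v11 R [4, 5, 5, 5, 5, 5, 5] = tw v11 R [2] := tw_conj [3, 1, 4, 5] (by decide +kernel)
  have c7 : tw v11 R [4, 5, 5, 5, 5, 5, 5, 5] = tw v11 R [2, 2] := tw_conj [7, 6, 5, 1] (by decide +kernel)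
  have c8 : tw v11 R [4, 5, 5, 5, 5, 5, 5, 5, 5] = tw v11 R [3, 0] := tw_conj [6, 5, 5] (by decide +kernel)
  have c9 : tw v11 R [4, 5, 5, 5, 5, 5, 5, 5, 5, 5] = tw v11 R [2, 2, 2, 2, 2, 2, 2] := tw_conj [0, 6, 5, 7] (by decide +kernel)
  have c10 : tw v11 R [4, 5, 5, 5, 5, 5, 5, 5, 5, 5, 5] = tw v11 R [2, 2, 2, 2, 2, 2, 2] := tw_conj [6, 0, 7, 6] (by decide +kernel)
  rw [c0, c1, c2, c3, c4, c5, c6, c7, c8, c9, c10] at h
  linear_combination h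

end Cfsg.Agent.H840.M11
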