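import Cfsg.Agent.H840.M11.Dec
import Cfsg.Agent.H840.M11.Hom

/-!
# The ten-dimensional representation of `M11`
-/

set_option autoImplicit false
set_option linter.unusedSectionVars false
set_option linter.unusedVariables false
set_option maxRecDepth 100000

namespace Cfsg.Agent.H840.M11

open Cfsg Cfsg.Agent.CoThreeStd.MTwelve Cfsg.Agent.H6.M11 Cfsg.Agent.SporadicStructure.M11InvPerms
open scoped Matrix

/-! ### the action on points -/

theorem ix_facts : (∀ i < 11, ix (pc i) = i ∧ pc i < 24) ∧ ∀ c < 24, ix c < 11 → pc (ix c) = c := by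
  decide +kernel

theorem enc_smul (w : List ℕ) (p : GolayPt) : enc (ev v11 w • p) = act (w.flatMap W) (enc p) := by
  have h1 : ∀ w : List ℕ, ((ev v11 w : Spor.M11) : Equiv.Perm GolayPt) = ((wd (w.flatMap W) : Spor.M12) : Equiv.Perm GolayPt) := by
    intro w
    rw [← ev_vH]
    have h2 := map_ev v11 (Subgroup.inclusion M11_le) w
    have h3 := congrArg (fun x : Spor.M12 => (x : Equiv.Perm GolayPt)) h2
    exact h3
  change enc (((ev v11 w : Spor.M11) : Equiv.Perm GolayPt) p) = _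
  rw [h1]
  have h2 := (act_spec (w.flatMap W) (enc p) (enc_lt p)).1
  rwa [dec_enc] at h2

/-- index of a point -/
def ixp (p : GolayPt) : ℕ := ix (enc p)

theorem pp_spec (i : ℕ) (hi : i < 3) (p : GolayPt) (hp : ixp p < 11) :
    ixp (gu i • p) = (pp i).getD (ixp p) 0 ∧ (pp i).getD (ixp p) 0 < 11 := by
  have h1 : (pp i).getD (ixp p) 0 = ix (act ((UL i).flatMap W) (pc (ixp p))) := by
    rw [← pp_eq i hi, pi11, getD_map_range _ _ _ _ hp]
  have h2 : pc (ixp p) = enc p := ix_facts.2 _ (enc_lt p) hp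
  constructor
  · rw [h1, h2]
    unfold ixp
    rw [gu, enc_smul]
  · have h3 : ∀ i < 3, ∀ j < 11, (pp i).getD j 0 < 11 := by decide
    exact h3 i hi _ hp

/-! ### the vectors -/

theorem om_alt : ∀ i < 11, ∀ j < 11, ∀ k < 11, eqv 0 10 (om j i k) ((om i j k).map zn) = true ∧
    eqv 0 10 (om i k j) ((om i j k).map zn) = true := by decide +kernel

theorem om_diag : ∀ i < 11, ∀ j < 11, om i i j = [] ∧ om i j j = [] ∧ om i j i = [] := by decide +kernel

/-- indices of the ten triples -/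
def bk (k : ℕ) : ℕ × ℕ × ℕ := bt.getD k (0, 0, 0)

/-- the matrix of the ten vectors -/
def OT : List (List Zs) := (List.range 10).map fun i => (List.range 10).map fun k =>
  (om (bk k).1 (bk k).2.1 (bk k).2.2).getD i (0, 0)

theorem OT_ok : okm 10 OT = true ∧ okm 10 U1 = true ∧ okm 10 U2 = true ∧ okm 10 Aa = true ∧ okm 10 Gg = true ∧
    okm 10 Ph = true ∧ okm 10 Ps = true := by decide +kernel

theorem cb_spec : ∀ j < 10, eqv 0 10 (mv OT (cb.getD j [])) ((bv 10 j).map fun x => za x x) = true := by decide +kernel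

theorem bk_lt : ∀ k < 10, (bk k).1 < 11 ∧ (bk k).2.1 < 11 ∧ (bk k).2.2 < 11 := by decide

section F

variable {F : Type*} [Field F] {s : F}

theorem tv_map_zn (n : ℕ) (w : List Zs) : tv s n (w.map zn) = -tv s n w := by
  ext i
  change zf s ((w.map zn).getD i (0, 0)) = -zf s (w.getD i (0, 0))
  rw [← zf_neg]
  congr 1
  by_cases hi : (i : ℕ) < w.length
  · rw [List.getD_eq_getElem _ _ (by rw [List.length_map]; exact hi), List.getElem_map,
      List.getD_eq_getElem _ _ hi]
  · rw [List.getD_eq_default _ _ (by rw [List.length_map]; omega), List.getD_eq_default _ _ (by omega)]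
    rfl

theorem tv_nil (n : ℕ) : tv s n [] = 0 := by
  ext i
  exact zf_zero s

theorem z0 : ((0 : ℤ) : F) = 0 := Int.cast_zero

theorem okM (i : ℕ) (hi : i < 3) : okm 10 (Mt i) = true := by
  obtain ⟨-, h1, h2, h3, -⟩ := OT_ok
  interval_cases i
  · exact h1
  · exact h2
  · exact h3

/-- alternation -/
theorem tv_swap12 {i j k : ℕ} (hi : i < 11) (hj : j < 11) (hk : k < 11) :
    tv s 10 (om j i k) = -tv s 10 (om i j k) := by
  rw [eqv_spec z0 (om_alt i hi j hj k hk).1, tv_map_zn]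

theorem tv_swap23 {i j k : ℕ} (hi : i < 11) (hj : j < 11) (hk : k < 11) :
    tv s 10 (om i k j) = -tv s 10 (om i j k) := by
  rw [eqv_spec z0 (om_alt i hi j hj k hk).2, tv_map_zn]

/-- the action of the generators on the vectors -/
theorem act_om (hs : s * s = -2) (m : ℕ) (hm : m < 3) {i j k : ℕ} (hi : i < 11) (hj : j < 11) (hk : k < 11) :
    tm s 10 (Mt m) *ᵥ tv s 10 (om i j k) =
      tv s 10 (om ((pp m).getD i 0) ((pp m).getD j 0) ((pp m).getD k 0)) := by
  have hlt : ∀ i < 11, (pp m).getD i 0 < 11 := by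
    have h3 : ∀ m < 3, ∀ j < 11, (pp m).getD j 0 < 11 := by decide
    exact h3 m hm
  have key : ∀ i j k : ℕ, i < 11 → j < 11 → k < 11 → i < j → j < k → tm s 10 (Mt m) *ᵥ tv s 10 (om i j k) =
      tv s 10 (om ((pp m).getD i 0) ((pp m).getD j 0) ((pp m).getD k 0)) := by
    intro i j k hi hj hk hij hjk
    have h1 := chk_pp m hm
    have h2 := List.all_eq_true.1 (List.all_eq_true.1 (List.all_eq_true.1 h1 i (List.mem_range.2 hi)) j
      (List.mem_range.2 hj)) k (List.mem_range.2 hk)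
    rw [decide_eq_true hij, decide_eq_true hjk] at h2
    simp only [Bool.not_true, Bool.false_or] at h2
    rw [mv_spec hs (okM m hm)]
    exact eqv_spec z0 h2
  have diag : ∀ i j : ℕ, i < 11 → j < 11 → tv s 10 (om i i j) = 0 ∧ tv s 10 (om i j j) = 0 ∧ tv s 10 (om i j i) = 0 := by
    intro i j hi hj
    obtain ⟨h1, h2, h3⟩ := om_diag i hi j hj
    rw [h1, h2, h3, tv_nil]
    exact ⟨rfl, rfl, rfl⟩
  have n12 : ∀ {i j k : ℕ}, i < 11 → j < 11 → k < 11 → tm s 10 (Mt m) *ᵥ tv s 10 (om i j k) =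
      tv s 10 (om ((pp m).getD i 0) ((pp m).getD j 0) ((pp m).getD k 0)) →
      tm s 10 (Mt m) *ᵥ tv s 10 (om j i k) =
      tv s 10 (om ((pp m).getD j 0) ((pp m).getD i 0) ((pp m).getD k 0)) := by
    intro i j k hi hj hk h
    rw [tv_swap12 hi hj hk, Matrix.mulVec_neg, h, tv_swap12 (hlt i hi) (hlt j hj) (hlt k hk)]
  have n23 : ∀ {i j k : ℕ}, i < 11 → j < 11 → k < 11 → tm s 10 (Mt m) *ᵥ tv s 10 (om i j k) =
      tv s 10 (om ((pp m).getD i 0) ((pp m).getD j 0) ((pp m).getD k 0)) →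
      tm s 10 (Mt m) *ᵥ tv s 10 (om i k j) =
      tv s 10 (om ((pp m).getD i 0) ((pp m).getD k 0) ((pp m).getD j 0)) := by
    intro i j k hi hj hk h
    rw [tv_swap23 hi hj hk, Matrix.mulVec_neg, h, tv_swap23 (hlt i hi) (hlt j hj) (hlt k hk)]
  by_cases h1 : i = j
  · subst h1
    rw [(diag i k hi hk).1, (diag _ _ (hlt i hi) (hlt k hk)).1, Matrix.mulVec_zero]
  by_cases h2 : j = k
  · subst h2
    rw [(diag i j hi hj).2.1, (diag _ _ (hlt i hi) (hlt j hj)).2.1, Matrix.mulVec_zero]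
  by_cases h3 : i = k
  · subst h3
    rw [(diag i j hi hj).2.2, (diag _ _ (hlt i hi) (hlt j hj)).2.2, Matrix.mulVec_zero]
  rcases Nat.lt_or_gt_of_ne h1 with h4 | h4
  · rcases Nat.lt_or_gt_of_ne h2 with h5 | h5
    · exact key i j k hi hj hk h4 h5
    · rcases Nat.lt_or_gt_of_ne h3 with h6 | h6
      · exact n23 hi hk hj (key i k j hi hk hj h6 h5)
      · exact n23 hi hk hj (n12 hk hi hj (key k i j hk hi hj h6 h4))
  · rcases Nat.lt_or_gt_of_ne h3 with h5 | h5
    · exact n12 hj hi hk (key j i k hj hi hk h4 h5)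
    · rcases Nat.lt_or_gt_of_ne h2 with h6 | h6
      · exact n12 hj hi hk (n23 hj hk hi (key j k i hj hk hi h6 h5))
      · exact n12 hj hi hk (n23 hj hk hi (n12 hk hj hi (key k j i hk hj hi h6 h4)))

variable (s) in
/-- the vector of a triple of points -/
noncomputable def omv (o : GolayPt × GolayPt × GolayPt) : Fin 10 → F :=
  tv s 10 (om (ixp o.1) (ixp o.2.1) (ixp o.2.2))

/-- the triples -/
def St : Set (GolayPt × GolayPt × GolayPt) := {o | ixp o.1 < 11 ∧ ixp o.2.1 < 11 ∧ ixp o.2.2 < 11}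

theorem ixp_dec {i : ℕ} (hi : i < 11) : ixp (dec (pc i)) = i := by
  unfold ixp
  rw [enc_dec _ (ix_facts.1 i hi).2, (ix_facts.1 i hi).1]

theorem span_omv (hs : s * s = -2) (h2 : (2 : F) ≠ 0) : Submodule.span F (omv s '' St) = ⊤ := by
  have h1 : ∀ j : Fin 10, (Pi.single j (1 : F) : Fin 10 → F) ∈ Submodule.span F (omv s '' St) := by
    intro j
    have h3 := eqv_spec (s := s) z0 (cb_spec j j.2)
    rw [← mv_spec hs OT_ok.1, Matrix.mulVec_eq_sum] at h3
    have h4 : tv s 10 ((bv 10 j).map fun x => za x x) = (2 : F) • (Pi.single j 1 : Fin 10 → F) := by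
      rw [← bv_spec (s := s)]
      ext i
      change zf s (((bv 10 j).map fun x => za x x).getD i (0, 0)) = 2 * zf s ((bv 10 j).getD i (0, 0))
      have hl : (i : ℕ) < (bv 10 j).length := by rw [bv, List.length_map, List.length_range]; exact i.2
      rw [List.getD_eq_getElem _ _ (by rw [List.length_map]; exact hl), List.getElem_map,
        List.getD_eq_getElem _ _ hl, zf_add, two_mul]
    rw [h4] at h3
    have h5 : (Pi.single j (1 : F) : Fin 10 → F) = (2 : F)⁻¹ • ((2 : F) • (Pi.single j 1 : Fin 10 → F)) := by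
      rw [smul_smul, inv_mul_cancel₀ h2, one_smul]
    rw [h5, ← h3]
    refine Submodule.smul_mem _ _ (Submodule.sum_mem _ fun k _ => ?_)
    have h6 : (tm s 10 OT)ᵀ k = omv s (dec (pc (bk k).1), dec (pc (bk k).2.1), dec (pc (bk k).2.2)) := by
      obtain ⟨b1, b2, b3⟩ := bk_lt k k.2
      unfold omv
      rw [ixp_dec b1, ixp_dec b2, ixp_dec b3]
      ext i
      change zf s ((OT.getD i []).getD k (0, 0)) = zf s ((om (bk k).1 (bk k).2.1 (bk k).2.2).getD i (0, 0))
      unfold OT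
      rw [getD_map_range _ _ _ _ i.2, getD_map_range _ _ _ _ k.2]
    have h7 : omv s (dec (pc (bk k).1), dec (pc (bk k).2.1), dec (pc (bk k).2.2)) ∈ Submodule.span F (omv s '' St) := by
      obtain ⟨b1, b2, b3⟩ := bk_lt k k.2
      refine Submodule.subset_span ⟨_, ⟨?_, ?_, ?_⟩, rfl⟩
      · rw [ixp_dec b1]; exact b1
      · rw [ixp_dec b2]; exact b2
      · rw [ixp_dec b3]; exact b3
    rw [← h6] at h7
    rw [op_smul_eq_smul]
    exact Submodule.smul_mem _ _ h7
  rw [eq_top_iff]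
  intro v _
  rw [← Finset.univ_sum_single v]
  refine Submodule.sum_mem _ fun i _ => ?_
  have : (Pi.single i (v i) : Fin 10 → F) = v i • (Pi.single i 1 : Fin 10 → F) := by
    rw [← Pi.single_smul, smul_eq_mul, mul_one]
  rw [this]
  exact Submodule.smul_mem _ _ (h1 i)

/-- **The representation.** -/
theorem exists_rho (hs : s * s = -2) (h2 : (2 : F) ≠ 0) :
    ∃ ρ : Spor.M11 →* Matrix (Fin 10) (Fin 10) F, ∀ i < 3, ρ (gu i) = tm s 10 (Mt i) := by
  classical
  let A : Spor.M11 → Matrix (Fin 10) (Fin 10) F := fun x =>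
    if x = gu 0 then tm s 10 (Mt 0) else if x = gu 1 then tm s 10 (Mt 1) else tm s 10 (Mt 2)
  have hne : gu 0 ≠ gu 1 ∧ gu 0 ≠ gu 2 ∧ gu 1 ≠ gu 2 := by
    have h : ∀ i < 3, ∀ j < 3, i ≠ j → act ((UL i).flatMap W) 1 ≠ act ((UL j).flatMap W) 1 ∨
        act ((UL i).flatMap W) 2 ≠ act ((UL j).flatMap W) 2 ∨ act ((UL i).flatMap W) 3 ≠ act ((UL j).flatMap W) 3 := by
      decide +kernel
    have key : ∀ i < 3, ∀ j < 3, i ≠ j → gu i ≠ gu j := by
      intro i hi j hj hij heq
      have h3 : ∀ c < 24, act ((UL i).flatMap W) c = act ((UL j).flatMap W) c := by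
        intro c hc
        have := congrArg (fun x : Spor.M11 => enc (x • dec c)) heq
        simp only [gu, enc_smul, enc_dec c hc] at this
        exact this
      rcases h i hi j hj hij with h4 | h4 | h4
      · exact h4 (h3 1 (by norm_num))
      · exact h4 (h3 2 (by norm_num))
      · exact h4 (h3 3 (by norm_num))
    exact ⟨key 0 (by norm_num) 1 (by norm_num) (by norm_num), key 0 (by norm_num) 2 (by norm_num) (by norm_num),
      key 1 (by norm_num) 2 (by norm_num) (by norm_num)⟩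
  have hA : ∀ i < 3, A (gu i) = tm s 10 (Mt i) := by
    intro i hi
    interval_cases i
    · exact if_pos rfl
    · exact (if_neg hne.1.symm).trans (if_pos rfl)
    · exact (if_neg hne.2.1.symm).trans (if_neg hne.2.2.symm)
  obtain ⟨ρ, -, hρ⟩ := exists_hom (omv s) St ({gu 0, gu 1, gu 2} : Set Spor.M11) gen_gu A (by
    intro x hx o ho
    obtain ⟨i, hi, rfl⟩ : ∃ i < 3, x = gu i := by
      rcases hx with rfl | rfl | hx
      · exact ⟨0, by norm_num, rfl⟩
      · exact ⟨1, by norm_num, rfl⟩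
      · exact ⟨2, by norm_num, hx⟩
    obtain ⟨p, q, r⟩ := o
    obtain ⟨hp, hq, hr⟩ := ho
    obtain ⟨p1, p2⟩ := pp_spec i hi p hp
    obtain ⟨q1, q2⟩ := pp_spec i hi q hq
    obtain ⟨r1, r2⟩ := pp_spec i hi r hr
    refine ⟨⟨?_, ?_, ?_⟩, ?_⟩
    · change ixp (gu i • p) < 11
      rw [p1]; exact p2
    · change ixp (gu i • q) < 11
      rw [q1]; exact q2
    · change ixp (gu i • r) < 11
      rw [r1]; exact r2
    · rw [hA i hi]
      change tm s 10 (Mt i) *ᵥ tv s 10 (om (ixp p) (ixp q) (ixp r)) =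
        tv s 10 (om (ixp (gu i • p)) (ixp (gu i • q)) (ixp (gu i • r)))
      rw [act_om hs i hi hp hq hr, p1, q1, r1]) (span_omv hs h2)
  refine ⟨ρ, fun i hi => ?_⟩
  rw [← hA i hi]
  apply hρ
  interval_cases i
  · exact Or.inl rfl
  · exact Or.inr (Or.inl rfl)
  · exact Or.inr (Or.inr rfl)

end F

end Cfsg.Agent.H840.M11
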