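import Mathlib

/-!
# Computable linear algebra over `ℤ[s]`, `s² = -2`
-/

set_option autoImplicit false
set_option linter.unusedSectionVars false
set_option linter.unusedVariables false

namespace Cfsg.Agent.H840.M11

/-- `(a, b)` stands for `a + b s` -/
abbrev Zs := ℤ × ℤ

/-- product -/
def zm (x y : Zs) : Zs := (x.1 * y.1 - 2 * (x.2 * y.2), x.1 * y.2 + x.2 * y.1)
/-- sum -/
def za (x y : Zs) : Zs := (x.1 + y.1, x.2 + y.2)
/-- opposite -/
def zn (x : Zs) : Zs := (-x.1, -x.2)
/-- conjugate -/
def zc (x : Zs) : Zs := (x.1, -x.2)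
/-- reduction modulo an integer (nothing if it is zero) -/
def zr (q : ℤ) (x : Zs) : Zs := (x.1 % q, x.2 % q)

/-- scalar product -/
def dot : List Zs → List Zs → Zs
  | a :: r, b :: w => za (zm a b) (dot r w)
  | _, _ => (0, 0)

/-- matrix times vector -/
def mv (M : List (List Zs)) (w : List Zs) : List Zs := M.map fun r => dot r w

/-- the value of a product of matrices on a vector -/
def app (Ms : List (List (List Zs))) (w : List Zs) : List Zs := Ms.foldr mv w

/-- the basis vectors -/
def bv (n j : ℕ) : List Zs := (List.range n).map fun i => if i = j then (1, 0) else (0, 0)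

/-- equality modulo `q` of the first `n` coordinates -/
def eqv (q : ℤ) (n : ℕ) (w w' : List Zs) : Bool :=
  (List.range n).all fun i => decide (zr q (w.getD i (0, 0)) = zr q (w'.getD i (0, 0)))

/-- rows have length at most `n` -/
def okm (n : ℕ) (M : List (List Zs)) : Bool := M.all fun r => decide (r.length ≤ n)

/-- trace of a product of matrices -/
def trw (n : ℕ) (Ms : List (List (List Zs))) : Zs :=
  (List.range n).foldr (fun j t => za ((app Ms (bv n j)).getD j (0, 0)) t) (0, 0)

section eval

variable {F : Type*} [Field F] (s : F)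

/-- evaluation -/
def zf (x : Zs) : F := (x.1 : F) + (x.2 : F) * s

theorem zf_zero : zf s (0, 0) = 0 := by simp [zf]
theorem zf_one : zf s (1, 0) = 1 := by simp [zf]
theorem zf_add (x y : Zs) : zf s (za x y) = zf s x + zf s y := by
  simp only [zf, za, Int.cast_add]; ring
theorem zf_neg (x : Zs) : zf s (zn x) = -zf s x := by
  simp only [zf, zn, Int.cast_neg]; ring

theorem zf_conj (x : Zs) : zf s (zc x) = zf (-s) x := by
  simp only [zf, zc, Int.cast_neg]; ring

variable {s}

theorem zf_mul (hs : s * s = -2) (x y : Zs) : zf s (zm x y) = zf s x * zf s y := by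
  simp only [zf, zm, Int.cast_add, Int.cast_mul, Int.cast_sub, Int.cast_ofNat]
  linear_combination (-(x.2 : F) * y.2) * hs

theorem zf_red {q : ℤ} (hq : (q : F) = 0) (x : Zs) : zf s (zr q x) = zf s x := by
  have h : ∀ a : ℤ, ((a % q : ℤ) : F) = a := by
    intro a
    rw [Int.emod_def, Int.cast_sub, Int.cast_mul, hq, zero_mul, sub_zero]
  simp only [zf, zr, h]

theorem zf_eq {q : ℤ} (hq : (q : F) = 0) {x y : Zs} (h : zr q x = zr q y) : zf s x = zf s y := by
  rw [← zf_red hq x, h, zf_red hq]

variable (s) in
/-- the vector of a list -/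
def tv (n : ℕ) (w : List Zs) : Fin n → F := fun i => zf s (w.getD i (0, 0))

variable (s) in
/-- the matrix of a list of rows -/
def tm (n : ℕ) (M : List (List Zs)) : Matrix (Fin n) (Fin n) F := fun i j => zf s ((M.getD i []).getD j (0, 0))

theorem dot_spec (hs : s * s = -2) : ∀ (n : ℕ) (r w : List Zs), r.length ≤ n →
    zf s (dot r w) = ∑ i : Fin n, zf s (r.getD i (0, 0)) * zf s (w.getD i (0, 0)) := by
  intro n
  induction n with
  | zero =>
    intro r w hr
    have : r = [] := List.length_eq_zero_iff.1 (Nat.le_zero.1 hr)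
    subst this
    rw [Fin.sum_univ_zero]
    exact zf_zero s
  | succ n ih =>
    intro r w hr
    match r, w with
    | [], w =>
      simp only [List.getD_nil, zf_zero, zero_mul, Finset.sum_const_zero]
      exact zf_zero s
    | a :: r, [] =>
      simp only [List.getD_nil, zf_zero, mul_zero, Finset.sum_const_zero]
      exact zf_zero s
    | a :: r, b :: w =>
      rw [Fin.sum_univ_succ, dot, zf_add, zf_mul hs, ih r w (Nat.le_of_succ_le_succ hr)]
      rfl

theorem mv_spec (hs : s * s = -2) {n : ℕ} {M : List (List Zs)} (hM : okm n M = true) (w : List Zs) :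
    (tm s n M).mulVec (tv s n w) = tv s n (mv M w) := by
  ext i
  have h1 : (mv M w).getD i (0, 0) = dot (M.getD i []) w := by
    unfold mv
    by_cases hi : (i : ℕ) < M.length
    · rw [List.getD_eq_getElem _ _ (by rw [List.length_map]; exact hi), List.getElem_map,
        List.getD_eq_getElem _ _ hi]
    · rw [List.getD_eq_default _ _ (by rw [List.length_map]; omega), List.getD_eq_default _ _ (by omega)]
      rfl
  have h2 : (M.getD i []).length ≤ n := by
    by_cases hi : (i : ℕ) < M.length
    · rw [List.getD_eq_getElem _ _ hi]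
      have := List.all_eq_true.1 hM _ (List.getElem_mem hi)
      exact of_decide_eq_true this
    · rw [List.getD_eq_default _ _ (by omega)]
      exact Nat.zero_le _
  change ∑ j : Fin n, zf s ((M.getD i []).getD j (0, 0)) * zf s (w.getD j (0, 0)) = zf s ((mv M w).getD i (0, 0))
  rw [h1, dot_spec hs n _ _ h2]

theorem app_spec (hs : s * s = -2) {n : ℕ} : ∀ {Ms : List (List (List Zs))} (_ : ∀ M ∈ Ms, okm n M = true)
    (w : List Zs), ((Ms.map (tm s n)).prod).mulVec (tv s n w) = tv s n (app Ms w) := by
  intro Ms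
  induction Ms with
  | nil => intro _ w; simp [app]
  | cons M Ms ih =>
    intro h w
    rw [List.map_cons, List.prod_cons, ← Matrix.mulVec_mulVec, ih (fun M' h' => h M' (List.mem_cons_of_mem _ h')),
      mv_spec hs (h M List.mem_cons_self)]
    rfl

theorem eqv_spec {q : ℤ} (hq : (q : F) = 0) {n : ℕ} {w w' : List Zs} (h : eqv q n w w' = true) :
    tv s n w = tv s n w' := by
  ext i
  have h1 := List.all_eq_true.1 h i (List.mem_range.2 i.2)
  exact zf_eq hq (of_decide_eq_true h1)

theorem getD_map_range {α : Type*} (f : ℕ → α) (n i : ℕ) (d : α) (hi : i < n) :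
    ((List.range n).map f).getD i d = f i := by
  rw [List.getD_eq_getElem _ _ (by simpa using hi)]
  simp

theorem bv_spec (n : ℕ) (j : Fin n) : tv s n (bv n j) = Pi.single j 1 := by
  ext i
  unfold tv bv
  rw [getD_map_range _ _ _ _ i.2]
  by_cases h : i = j
  · subst h
    rw [if_pos rfl, zf_one, Pi.single_eq_same]
  · rw [if_neg (fun h' => h (Fin.ext h')), zf_zero, Pi.single_eq_of_ne h]

/-- equality of products of matrices -/
theorem prod_eq (hs : s * s = -2) {q : ℤ} (hq : (q : F) = 0) {n : ℕ} {Ms Ns : List (List (List Zs))}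
    (hM : ∀ M ∈ Ms, okm n M = true) (hN : ∀ M ∈ Ns, okm n M = true)
    (h : ∀ j < n, eqv q n (app Ms (bv n j)) (app Ns (bv n j)) = true) :
    (Ms.map (tm s n)).prod = (Ns.map (tm s n)).prod := by
  apply Matrix.ext_of_mulVec_single
  intro j
  rw [← bv_spec n j, app_spec hs hM, app_spec hs hN]
  exact eqv_spec hq (h j j.2)

/-- opposite products -/
theorem prod_neg (hs : s * s = -2) {q : ℤ} (hq : (q : F) = 0) {n : ℕ} {Ms Ns : List (List (List Zs))}
    (hM : ∀ M ∈ Ms, okm n M = true) (hN : ∀ M ∈ Ns, okm n M = true)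
    (h : ∀ j < n, eqv q n (app Ms (bv n j)) ((app Ns (bv n j)).map zn) = true) :
    (Ms.map (tm s n)).prod = -(Ns.map (tm s n)).prod := by
  apply Matrix.ext_of_mulVec_single
  intro j
  rw [Matrix.neg_mulVec, ← bv_spec n j, app_spec hs hM, app_spec hs hN, eqv_spec hq (h j j.2)]
  ext i
  change zf s (((app Ns (bv n j)).map zn).getD i (0, 0)) = -zf s ((app Ns (bv n j)).getD i (0, 0))
  rw [← zf_neg]
  congr 1
  generalize app Ns (bv n j) = w
  by_cases hi : (i : ℕ) < w.length
  · rw [List.getD_eq_getElem _ _ (by rw [List.length_map]; exact hi), List.getElem_map,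
      List.getD_eq_getElem _ _ hi]
  · rw [List.getD_eq_default _ _ (by rw [List.length_map]; omega), List.getD_eq_default _ _ (by omega)]
    rfl

/-- the trace of a product of matrices -/
theorem trace_spec (hs : s * s = -2) {n : ℕ} {Ms : List (List (List Zs))} (hM : ∀ M ∈ Ms, okm n M = true) :
    ((Ms.map (tm s n)).prod).trace = zf s (trw n Ms) := by
  have h1 : ∀ l : List ℕ, zf s (l.foldr (fun j t => za ((app Ms (bv n j)).getD j (0, 0)) t) (0, 0)) =
      (l.map fun j => zf s ((app Ms (bv n j)).getD j (0, 0))).sum := by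
    intro l
    induction l with
    | nil => exact zf_zero s
    | cons a l ih => rw [List.foldr_cons, zf_add, ih, List.map_cons, List.sum_cons]
  have h2 : ∀ (f : ℕ → F), ((List.range n).map f).sum = ∑ j : Fin n, f j := by
    intro f
    rw [← List.sum_ofFn, List.ofFn_eq_map, ← List.map_coe_finRange_eq_range, List.map_map]
    rfl
  unfold trw
  rw [h1, h2, Matrix.trace]
  refine Finset.sum_congr rfl fun j _ => ?_
  have h3 := congrFun (app_spec hs hM (bv n j)) j
  rw [bv_spec, Matrix.mulVec_single_one] at h3
  exact h3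

end eval

end Cfsg.Agent.H840.M11
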