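import Cfsg.Agent.H6.M11.Main3

/-!
# Elements of order 11 have no fixed vectors, characteristic three (adapted from `H6/M11/Main3`)
-/

set_option autoImplicit false
set_option linter.unusedSectionVars false
set_option linter.unusedVariables false
set_option maxRecDepth 100000

namespace Cfsg.Agent.H840.M11

open Module LinearMap
open Cfsg.Agent.H6.M11

variable {G : Type*} [Group G] {v : ℕ → G} {k : Type*} [Field k] {V : Type*} [AddCommGroup V] [Module k V]
  [FiniteDimensional k V] {R : G →* End k V} {ζ ξ : k}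

/-- an element of order 11 has no fixed vectors -/
theorem fix_eleven (h : Sat v) (h3 : (3 : k) = 0) (hζ : IsPrimitiveRoot ζ 11) (hξ : IsPrimitiveRoot ξ 5)
    (irr : Irr v R) (hX1 : op v R [5] ≠ 1) (hn2 : 2 ≤ finrank k V) (hn : finrank k V ≤ 12) :
    finrank k (End.eigenspace (op v R [5]) 1) = 0 := by
  have h11k := eleven_ne_of3 h3
  have hX := h.toL.pow_eleven (R := R)
  obtain ⟨m, a, b, ha, hb, hm, hdim⟩ := h.toL.eigen (R := R) hζ ⊤ (fun _ _ => trivial) (fun _ _ => trivial)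
  have top' : ∀ c : k, finrank k (⊤ ⊓ End.eigenspace (op v R [5]) c : Submodule k V) =
      finrank k (End.eigenspace (op v R [5]) c) := fun c => by rw [top_inf_eq]
  simp only [top'] at ha hb hm
  rw [finrank_top] at hdim
  have hab : 0 < a + b := by
    by_contra hcon
    have h2 : a = 0 ∧ b = 0 := by omega
    apply hX1
    have h4 : (⊤ : Submodule k V) ≤ End.eigenspace (op v R [5]) 1 := le_of_finrank (by
      rw [top_inf_eq, hm, finrank_top, hdim]; omega)
    ext u
    have h5 := h4 (Submodule.mem_top (x := u))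
    rw [End.mem_eigenspace_iff, one_smul] at h5
    exact h5
  by_contra hcon
  have hm1 : 1 ≤ m := by rw [hm] at hcon; omega
  -- an eigenvector of `d`
  obtain ⟨x0, c, hx0, f5, f6⟩ : ∃ (x0 : V) (c : k), x0 ≠ 0 ∧ op v R [5] x0 = x0 ∧ op v R [6] x0 = c • x0 := by
    have hinv : ∀ u ∈ fix (op v R [5]), op v R [6] u ∈ fix (op v R [5]) := by
      intro u hu
      exact mem_of_comm (isProj_av h11k hX) (h.toL.d_av h11k) hu
    have hsum := finrank_eq_sum hξ (by norm_num) (h.toL.pow_five (R := R)) (fix (op v R [5])) hinv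
    have h1 : finrank k (fix (op v R [5])) = m := hm
    obtain ⟨j, -, hj⟩ : ∃ j ∈ (Finset.univ : Finset (Fin 5)),
        finrank k (fix (op v R [5]) ⊓ End.eigenspace (op v R [6]) (ξ ^ (j : ℕ)) : Submodule k V) ≠ 0 := by
      by_contra hc
      push Not at hc
      rw [Finset.sum_eq_zero hc, h1] at hsum
      omega
    have h2 : (fix (op v R [5]) ⊓ End.eigenspace (op v R [6]) (ξ ^ (j : ℕ)) : Submodule k V) ≠ ⊥ := by
      intro hc
      rw [hc, finrank_bot] at hj
      exact hj rfl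
    obtain ⟨x0, hx, hx0⟩ := (Submodule.ne_bot_iff _).1 h2
    obtain ⟨g1, g2⟩ := Submodule.mem_inf.1 hx
    exact ⟨x0, ξ ^ (j : ℕ), hx0, mem_fix.1 g1, End.mem_eigenspace_iff.1 g2⟩
  obtain ⟨i5, i6, i7⟩ := h.toL.span_inv f5 f6
  have hUb : spanO (op v R [5]) x0 (op v R [7] x0) ≠ ⊥ := by
    intro h1
    have h2 : x0 ∈ spanO (op v R [5]) x0 (op v R [7] x0) := x0_mem
    rw [h1, Submodule.mem_bot] at h2
    exact hx0 h2
  have hone : a + b = 1 → spanO (op v R [5]) x0 (op v R [7] x0) = ⊤ := by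
    intro hab1
    by_contra hU
    obtain ⟨m1, a1, b1, -, -, g1, g2⟩ := h.step h3 hζ irr hn2 ha hb i5 i6 i7 hUb hU
    omega
  have hm2 : m ≤ 2 := by
    by_cases hab1 : a + b = 1
    · have h1 := finrank_fix_le (u := op v R [7] x0) h11k hX f5
      rw [hone hab1, top_inf_eq, hm] at h1
      exact h1
    · omega
  have hd := h.d_trivial h3 hξ (by rw [hm]; exact hm2)
  have f6' := hd x0 f5
  have hT := h.toL.twelve_w f5 f6'
  have hsX := hT.X_sum h11k
  have hs := h.no_fix h3 irr hn2 hsX (hd _ hsX) hT.T_sum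
  obtain ⟨φ, e0, eX, eW⟩ := hT.exists_dual h3 hx0 hs
  have hφav : ∀ y, φ (av 11 (op v R [5]) y) = φ y := by
    intro y
    have e1 : ∀ i : ℕ, φ ((op v R [5] ^ i) y) = φ y := by
      intro i
      induction i with
      | zero => rfl
      | succ i ih => rw [pow_succ', Module.End.mul_apply, eX, ih]
    rw [av, LinearMap.smul_apply, LinearMap.sum_apply, map_smul, map_sum, Finset.sum_congr rfl fun i _ => e1 i,
      Finset.sum_const, Finset.card_range, nsmul_eq_mul, smul_eq_mul, ← mul_assoc, inv_mul_cancel₀ h11k, one_mul]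
  have eD : ∀ y, φ (op v R [6] y) = φ y := by
    intro y
    rw [← hφav (op v R [6] y), ← Module.End.mul_apply, ← h.toL.d_av h11k, Module.End.mul_apply,
      hd _ (av_apply_mem hX y), hφav]
  have hUt : spanO (op v R [5]) x0 (op v R [7] x0) ≠ ⊤ := by
    intro hU
    have h1 := h.no_dual h3 irr hn2 (ψ := φ) eX eD (fun u => eW u (by rw [hU]; trivial))
    rw [h1, LinearMap.zero_apply] at e0
    exact zero_ne_one e0
  obtain ⟨m1, a1, b1, hdim1, hm1', g1, g2⟩ := h.step h3 hζ irr hn2 ha hb i5 i6 i7 hUb hUt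
  have hm1le : m1 ≤ 2 := by
    rw [← hm1']
    refine le_trans (Submodule.finrank_mono inf_le_right) (by rw [hm]; exact hm2)
  have hxU : x0 ∈ spanO (op v R [5]) x0 (op v R [7] x0) ⊓ End.eigenspace (op v R [5]) 1 :=
    Submodule.mem_inf.2 ⟨x0_mem, by rw [End.mem_eigenspace_iff, one_smul]; exact f5⟩
  have hm1pos : 0 < m1 := by
    rw [← hm1']
    have : Nontrivial (spanO (op v R [5]) x0 (op v R [7] x0) ⊓ End.eigenspace (op v R [5]) 1 : Submodule k V) := by
      rw [Submodule.nontrivial_iff_ne_bot]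
      intro h1
      rw [h1, Submodule.mem_bot] at hxU
      exact hx0 hxU
    exact finrank_pos
  have final : ∀ S : Submodule k V, (∀ u ∈ S, op v R [5] u ∈ S) → (∀ u ∈ S, op v R [6] u ∈ S) →
      (∀ u ∈ S, op v R [7] u ∈ S) → finrank k S = 6 →
      finrank k (S ⊓ End.eigenspace (op v R [5]) 1 : Submodule k V) = 1 → False := by
    intro S j5 j6 j7 hS6 hS1
    have h1 := h.toL.lemF_sub h3 hζ hξ j5 j6 j7 hS6 hS1 (fun u _ hu => hd u hu)
    have h2 : (S ⊓ End.eigenspace (op v R [5]) 1 : Submodule k V) ≠ ⊥ := by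
      intro hc
      rw [hc, finrank_bot] at hS1
      exact zero_ne_one hS1
    obtain ⟨y, hy, hy0⟩ := (Submodule.ne_bot_iff _).1 h2
    obtain ⟨y1, y2⟩ := Submodule.mem_inf.1 hy
    rw [End.mem_eigenspace_iff, one_smul] at y2
    exact hy0 (h.no_fix h3 irr hn2 y2 (hd y y2) (h1 y y1 y2))
  rcases (show m1 = 1 ∨ m1 = 2 by omega) with hm1'' | hm1''
  · exact final _ i5 i6 i7 (by omega) (by rw [hm1', hm1''])
  · refine final (spanO (op v R [5]) x0 (op v R [7] x0) ⊓ LinearMap.ker φ) ?_ ?_ ?_ ?_ ?_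
    · intro u hu
      obtain ⟨u1, u2⟩ := Submodule.mem_inf.1 hu
      refine Submodule.mem_inf.2 ⟨i5 u u1, ?_⟩
      rw [LinearMap.mem_ker] at u2 ⊢
      rw [eX, u2]
    · intro u hu
      obtain ⟨u1, u2⟩ := Submodule.mem_inf.1 hu
      refine Submodule.mem_inf.2 ⟨i6 u u1, ?_⟩
      rw [LinearMap.mem_ker] at u2 ⊢
      rw [eD, u2]
    · intro u hu
      obtain ⟨u1, u2⟩ := Submodule.mem_inf.1 hu
      refine Submodule.mem_inf.2 ⟨i7 u u1, ?_⟩
      rw [LinearMap.mem_ker] at u2 ⊢
      rw [eW u u1, u2]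
    · have h1 := finrank_inf_ker φ _ (x0_mem (X := op v R [5]) (x0 := x0) (u := op v R [7] x0)) e0
      omega
    · have h1 := finrank_inf_ker φ _ hxU e0
      rw [hm1'] at h1
      rw [inf_right_comm]
      omega

end Cfsg.Agent.H840.M11
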